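import Cfsg.Agent.Lib.Steinberg.Polar

/-!
# Chamber functions of a polar space

`steinSpace P` is the space of functions on chambers whose sum over every panel vanishes.
Such a function is determined by its values on the chambers opposite a given one.
-/

set_option autoImplicit false

open Module Submodule

namespace Cfsg.Agent.Steinberg.Polar

variable {F : Type*} [Field F] {V : Type*} [AddCommGroup V] [Module F V] {m : ℕ} {P : Polar F V m}
variable [FiniteDimensional F V]

/-- The space in which the `k`-th member of a chamber adjacent to `D` lies. -/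
def up (D : P.Cham) (k : ℕ) : Submodule F V :=
  if k < m then D.sub (k + 1) else P.perp (D.sub (m - 1))

omit [FiniteDimensional F V] in
theorem sub_le_up {D D' : P.Cham} {k : ℕ} (h1 : 1 ≤ k) (hkm : k ≤ m) (h : Adj k D D') :
    D'.sub k ≤ up D k := by
  unfold up
  split_ifs with hk
  · rw [h (k + 1) hk (by omega)]; exact D'.mono (Nat.le_succ k)
  · obtain rfl : k = m := by omega
    rw [h (k - 1) (by omega) (by omega)]
    exact (P.ts_le_perp D'.ts).trans (P.perp_anti (D'.le_top _))

/-- A panel step towards the chambers opposite `C`. -/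
def Pref (C D : P.Cham) (k j : ℕ) : Prop :=
  ¬ E C j ⊓ D.sub k ≤ D.sub (k - 1) ∧ E C j ⊓ up D k ≤ D.sub k

theorem finrank_inf_le (C D : P.Cham) {k : ℕ} (h1 : 1 ≤ k) (hkm : k ≤ m) (j : ℕ) :
    finrank F ↥(D.sub k ⊓ E C j) ≤ finrank F ↥(D.sub (k - 1) ⊓ E C j) + 1 := by
  rw [inf_comm, inf_comm (D.sub (k - 1))]
  refine finrank_inf_le_succ _ (D.mono (Nat.sub_le k 1)) ?_
  rw [D.dim k hkm, D.dim (k - 1) (by omega)]; omega

theorem finrank_inf_eq {C D : P.Cham} {k : ℕ} (h1 : 1 ≤ k) (hkm : k ≤ m) {j : ℕ}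
    (h : ¬ E C j ⊓ D.sub k ≤ D.sub (k - 1)) :
    finrank F ↥(D.sub k ⊓ E C j) = finrank F ↥(D.sub (k - 1) ⊓ E C j) + 1 := by
  refine le_antisymm (finrank_inf_le C D h1 hkm j) (Submodule.finrank_lt_finrank_of_lt ?_)
  refine lt_of_le_of_ne (inf_le_inf_right _ (D.mono (Nat.sub_le k 1))) fun he => h ?_
  rw [inf_comm, ← he]; exact inf_le_left

/-- The measure of position of `D` relative to `C`. -/
noncomputable def mu (C D : P.Cham) : ℕ :=
  ∑ i ∈ Finset.range (m + 1), ∑ j ∈ Finset.range (2 * m + 1), finrank F ↥(D.sub i ⊓ E C j)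

theorem mu_lt {C D D' : P.Cham} {k j : ℕ} (h1 : 1 ≤ k) (hkm : k ≤ m) (hj : j ≤ 2 * m)
    (hp : Pref C D k j) (ha : Adj k D D') (hne : D' ≠ D) : mu C D' < mu C D := by
  have hk1 : D'.sub (k - 1) = D.sub (k - 1) := (ha (k - 1) (by omega) (by omega)).symm
  have hle : ∀ j', finrank F ↥(D'.sub k ⊓ E C j') ≤ finrank F ↥(D.sub k ⊓ E C j') := by
    intro j'
    rcases le_or_gt j j' with hjj | hjj
    · have hA : ¬ E C j' ⊓ D.sub k ≤ D.sub (k - 1) := fun h =>
        hp.1 ((inf_le_inf_right _ (E_mono C hjj)).trans h)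
      rw [finrank_inf_eq h1 hkm hA]
      exact (finrank_inf_le C D' h1 hkm j').trans_eq (by rw [hk1])
    · refine finrank_mono (le_inf ?_ inf_le_right)
      refine le_trans ?_ hp.2
      exact le_inf (inf_le_right.trans (E_mono C hjj.le))
        (inf_le_left.trans (sub_le_up h1 hkm ha))
  have hlt : finrank F ↥(D'.sub k ⊓ E C j) < finrank F ↥(D.sub k ⊓ E C j) := by
    have hint : D.sub k ⊓ D'.sub k ≤ D.sub (k - 1) := by
      have hle' : D.sub (k - 1) ≤ D.sub k ⊓ D'.sub k :=
        le_inf (D.mono (Nat.sub_le k 1)) (hk1 ▸ D'.mono (Nat.sub_le k 1))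
      refine (eq_of_le_of_finrank_le hle' ?_).ge
      by_contra hlt
      rw [D.dim _ (by omega : k - 1 ≤ m)] at hlt
      have e1 : D.sub k ⊓ D'.sub k = D.sub k :=
        eq_of_le_of_finrank_le inf_le_left (by rw [D.dim k hkm]; omega)
      exact hne (ha.symm.eq (eq_of_le_of_finrank_le (inf_eq_left.1 e1)
        (by rw [D.dim k hkm, D'.dim k hkm])).symm)
    rw [finrank_inf_eq h1 hkm hp.1]
    refine Nat.lt_succ_of_le (finrank_mono (le_inf ?_ inf_le_right))
    refine le_trans ?_ hint
    refine le_inf (le_trans ?_ hp.2) inf_le_left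
    exact le_inf inf_le_right (inf_le_left.trans (sub_le_up h1 hkm ha))
  unfold mu
  refine Finset.sum_lt_sum (fun i hi => ?_) ⟨k, Finset.mem_range.2 (by omega), ?_⟩
  · refine Finset.sum_le_sum fun j' _ => ?_
    by_cases hik : i = k
    · exact hik ▸ hle j'
    · rw [ha i (Nat.lt_succ_iff.1 (Finset.mem_range.1 hi)) hik]
  · exact Finset.sum_lt_sum (fun j' _ => hle j') ⟨j, Finset.mem_range.2 (by omega), hlt⟩

theorem exists_pref {C D : P.Cham} (h : ¬ Opp C D) :
    ∃ k j, 1 ≤ k ∧ k ≤ m ∧ j ≤ 2 * m ∧ Pref C D k j := by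
  classical
  by_contra hno
  push Not at hno
  by_cases hm : m = 0
  · refine h fun i hi => ?_
    obtain rfl : i = 0 := by omega
    rw [D.sub_zero, bot_inf_eq]
  have hex : ∀ k, ∃ j, (1 ≤ k ∧ k ≤ m → ¬ E C j ⊓ D.sub k ≤ D.sub (k - 1)) := fun k =>
    ⟨2 * m, fun hk hle => by
      rw [E_top C (by omega), top_inf_eq] at hle
      have := finrank_mono hle
      rw [D.dim k hk.2, D.dim (k - 1) (by omega)] at this
      omega⟩
  let J : ℕ → ℕ := fun k => Nat.find (hex k)
  have hJ : ∀ k, 1 ≤ k → k ≤ m → ¬ E C (J k) ⊓ D.sub k ≤ D.sub (k - 1) := fun k a b =>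
    Nat.find_spec (hex k) ⟨a, b⟩
  have hmin : ∀ k j, 1 ≤ k → k ≤ m → j < J k → E C j ⊓ D.sub k ≤ D.sub (k - 1) := fun k j a b hj =>
    not_not.1 fun hc => Nat.find_min (hex k) hj fun _ => hc
  have hJ2 : ∀ k, 1 ≤ k → k ≤ m → J k ≤ 2 * m := fun k a b =>
    Nat.find_min' (hex k) fun _ hle => by
      rw [E_top C (by omega), top_inf_eq] at hle
      have := finrank_mono hle
      rw [D.dim k b, D.dim (k - 1) (by omega)] at this
      omega
  have hup : ∀ k, 1 ≤ k → k ≤ m → ¬ E C (J k) ⊓ up D k ≤ D.sub k := fun k a b hc =>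
    hno k (J k) a b (hJ2 k a b) ⟨hJ k a b, hc⟩
  have hJm : m < J m := by
    by_contra hc
    have hup' := hup m (by omega) le_rfl
    rw [up, if_neg (lt_irrefl m)] at hup'
    have hts : P.TS (D.sub (m - 1) ⊔ E C (J m) ⊓ P.perp (D.sub (m - 1))) :=
      P.ts_sup (D.ts' _) (P.ts_mono (inf_le_left.trans (E_le (not_lt.1 hc)).le)
        (C.ts' _)) inf_le_right
    obtain ⟨x, hx, hxn⟩ := SetLike.not_le_iff_exists.1 (hJ m (by omega) le_rfl)
    obtain ⟨hxE, hxD⟩ := Submodule.mem_inf.1 hx
    set X := D.sub (m - 1) ⊔ E C (J m) ⊓ P.perp (D.sub (m - 1)) with hX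
    have hxX : x ∈ X := mem_sup_right (Submodule.mem_inf.2 ⟨hxE,
      P.ts_le_perp D.ts |>.trans (P.perp_anti (D.le_top _)) hxD⟩)
    have hDm : D.sub m ≤ X := by
      have h1 : D.sub (m - 1) ⊔ span F {x} = D.sub m := by
        refine eq_of_le_of_finrank_le (sup_le (D.le_top _) ((span_singleton_le_iff_mem _ _).2 hxD)) ?_
        have h2 : D.sub (m - 1) < D.sub (m - 1) ⊔ span F {x} :=
          lt_of_le_of_ne le_sup_left fun he => hxn (he ▸ mem_sup_right (mem_span_singleton_self x))
        have := finrank_lt_finrank_of_lt h2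
        rw [D.dim (m - 1) (by omega)] at this
        rw [D.dim m le_rfl]
        omega
      rw [← h1]
      exact sup_le le_sup_left ((span_singleton_le_iff_mem _ _).2 hxX)
    have := eq_of_le_of_finrank_le hDm ((P.ts_le hts).trans (D.dim m le_rfl).ge)
    exact hup' (le_sup_right.trans this.ge)
  have hdec : ∀ k, 1 ≤ k → k < m → J (k + 1) < J k := by
    intro k a b
    have hup' := hup k a b.le
    rw [up, if_pos b] at hup'
    have hle : J (k + 1) ≤ J k := by
      refine not_lt.1 fun hlt => hup' ?_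
      exact hmin (k + 1) (J k) (by omega) b hlt
    refine lt_of_le_of_ne hle fun he => ?_
    have hj0 : J k ≠ 0 := fun h0 => hJ k a b.le (by rw [h0, E_zero, bot_inf_eq]; exact bot_le)
    obtain ⟨j, hj⟩ : ∃ j, J k = j + 1 := ⟨J k - 1, by omega⟩
    have h1 : finrank F ↥(D.sub (k + 1) ⊓ E C j) ≤ finrank F ↥(D.sub (k - 1) ⊓ E C (j + 1)) := by
      refine finrank_mono (le_inf ?_ (inf_le_right.trans (E_mono C (Nat.le_succ j))))
      refine le_trans (le_inf inf_le_right ?_) (hmin k j a b.le (by omega))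
      rw [inf_comm]
      exact hmin (k + 1) j (by omega) b (by omega)
    have h2 := finrank_inf_eq a b.le (hJ k a b.le)
    have h3 := finrank_inf_eq (C := C) (D := D) (k := k + 1) (j := J (k + 1)) (by omega) b
      (hJ (k + 1) (by omega) b)
    rw [Nat.add_sub_cancel, he] at h3
    have h4 := inf_E_succ C (D.ts' (k + 1)) j
    rw [hj] at h2 h3
    omega
  have hval : ∀ k, 1 ≤ k → k ≤ m → J k = 2 * m + 1 - k := by
    have hup : ∀ i k, k = i + 1 → k ≤ m → J k + i ≤ 2 * m := by
      intro i
      induction i with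
      | zero => intro k hk b; simpa using hJ2 k (by omega) b
      | succ i ih =>
        intro k hk b
        have := ih (i + 1) rfl (by omega)
        have := hdec (i + 1) (by omega) (by omega)
        subst hk
        omega
    have hlow : ∀ i k, k + i = m → 1 ≤ k → m + 1 + i ≤ J k := by
      intro i
      induction i with
      | zero => intro k hk _; obtain rfl : k = m := by omega
                omega
      | succ i ih =>
        intro k hk a
        have := ih (k + 1) (by omega) (by omega)
        have := hdec k a (by omega)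
        omega
    intro k a b
    have := hup (k - 1) k (by omega) b
    have := hlow (m - k) k (by omega) a
    omega
  refine h fun i => ?_
  induction i with
  | zero => intro _; rw [D.sub_zero, bot_inf_eq]
  | succ i ih =>
    intro hi
    rw [eq_bot_iff, ← ih (by omega)]
    refine le_inf ?_ (inf_le_right.trans (P.perp_anti (C.mono (Nat.le_succ i))))
    rcases Nat.lt_or_ge (i + 1) m with hlt | hge
    · have := hmin (i + 1) (2 * m - (i + 1)) (by omega) hi (by rw [hval _ (by omega) hi]; omega)
      rw [E_gt (by omega), Nat.add_sub_cancel, show 2 * m - (2 * m - (i + 1)) = i + 1 by omega,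
        inf_comm] at this
      exact this
    · have h' : i + 1 = m := by omega
      have := hmin (i + 1) m (by omega) hi (by rw [hval _ (by omega) hi]; omega)
      rw [E_le le_rfl, Nat.add_sub_cancel] at this
      refine le_trans (le_inf ?_ inf_le_left) this
      rw [h']
      exact P.inf_perp_le D.ts C.ts (C.dim _ le_rfl)

/-- The chamber functions with vanishing panel sums. -/
noncomputable def steinSpace (P : Polar F V m) [Finite V] : Submodule ℂ (P.Cham → ℂ) :=
  letI := Fintype.ofFinite P.Cham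
  { carrier := {f | ∀ k, 1 ≤ k → k ≤ m → ∀ X : P.Cham,
      (∑ D : P.Cham, {D : P.Cham | Adj k X D}.indicator f D) = 0}
    add_mem' := fun ha hb k a b X => by
      simp [Set.indicator_add', Finset.sum_add_distrib, ha k a b X, hb k a b X]
    zero_mem' := fun k a b X => by simp
    smul_mem' := fun c f hf k a b X => by
      classical
      simp only [Set.indicator_apply, Pi.smul_apply, smul_eq_mul, ← mul_ite_zero, ← Finset.mul_sum]
      have := hf k a b X
      simp only [Set.indicator_apply] at this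
      rw [this, mul_zero] }

theorem mem_steinSpace [Finite V] [hft : Fintype P.Cham] {f : P.Cham → ℂ} :
    f ∈ steinSpace P ↔ ∀ k, 1 ≤ k → k ≤ m → ∀ X : P.Cham,
      (∑ D : P.Cham, {D : P.Cham | Adj k X D}.indicator f D) = 0 := by
  cases Subsingleton.elim hft (Fintype.ofFinite P.Cham)
  rfl

theorem eq_zero_of_opp [Finite V] {f : P.Cham → ℂ} (hf : f ∈ steinSpace P) (C : P.Cham)
    (h : ∀ D, Opp C D → f D = 0) : f = 0 := by
  classical
  have := Fintype.ofFinite P.Cham
  funext D
  induction hμ : mu C D using Nat.strong_induction_on generalizing D with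
  | _ n ih =>
    subst hμ
    by_cases hD : Opp C D
    · exact h D hD
    obtain ⟨k, j, h1, h2, h3, hp⟩ := exists_pref hD
    have := mem_steinSpace.1 hf k h1 h2 D
    rw [Finset.sum_eq_single D] at this
    · rwa [Set.indicator_of_mem (show D ∈ {D' | Adj k D D'} from adj_refl k D)] at this
    · intro D' _ hne
      by_cases ha : Adj k D D'
      · rw [Set.indicator_of_mem (show D' ∈ {D' | Adj k D D'} from ha)]
        exact ih _ (mu_lt h1 h2 h3 hp ha hne) D' rfl
      · exact Set.indicator_of_notMem ha f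
    · exact fun hn => absurd (Finset.mem_univ D) hn

end Cfsg.Agent.Steinberg.Polar
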