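import Cfsg.Agent.Lib.Steinberg.Group

/-!
# Criteria for the Witt index
-/

set_option autoImplicit false

open Module Submodule Cfsg.Agent.Steinberg

namespace Cfsg.Agent.Steinberg.Dim

variable {F : Type*} [Field F] [Finite F] {V : Type*} [AddCommGroup V] [Module F V]
variable [FiniteDimensional F V] {σ : F →+* F} (B : V →ₛₗ[σ] V →ₗ[F] F)

/-- A subspace on which a non-degenerate form vanishes has at most half the dimension. -/
theorem two_mul_finrank_le (hnd : ∀ u, (∀ v, B u v = 0) → u = 0) (W : Submodule F V)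
    (hW : ∀ x ∈ W, ∀ y ∈ W, B x y = 0) : 2 * finrank F W ≤ finrank F V := by
  let b := Module.finBasis F W
  let φ : Fin (finrank F W) → Dual F V := fun i => B (b i : V)
  have hsurj : Function.Surjective σ := (Finite.injective_iff_surjective).1 σ.injective
  have hli : LinearIndependent F φ := by
    rw [Fintype.linearIndependent_iff]
    intro c hc i
    choose d hd using fun j => hsurj (c j)
    have h0 : B ((∑ j, d j • b j : W) : V) = 0 := by
      simp only [Submodule.coe_sum, Submodule.coe_smul, map_sum]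
      rw [← hc]
      exact Finset.sum_congr rfl fun j _ => by rw [LinearMap.map_smulₛₗ, hd]
    have h1 : (∑ j, d j • b j : W) = 0 :=
      Subtype.ext (hnd _ fun v => LinearMap.congr_fun h0 v)
    have h2 := Fintype.linearIndependent_iff.1 b.linearIndependent d h1 i
    rw [← hd i, h2, map_zero]
  have hle : W ≤ (span F (Set.range φ)).dualCoannihilator := fun x hx => by
    rw [Submodule.mem_dualCoannihilator]
    intro ψ hψ
    have : span F (Set.range φ) ≤ LinearMap.ker (Module.Dual.eval F V x) :=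
      span_le.2 (by rintro _ ⟨i, rfl⟩; exact hW _ (b i).2 x hx)
    exact this hψ
  have h1 := Subspace.finrank_add_finrank_dualCoannihilator_eq (span F (Set.range φ))
  rw [finrank_span_eq_card hli, Fintype.card_fin] at h1
  have := finrank_mono hle
  omega

end Cfsg.Agent.Steinberg.Dim

namespace Cfsg.Agent.Steinberg.Polar.Frame

variable {F : Type*} [Field F] {V : Type*} [AddCommGroup V] [Module F V] [FiniteDimensional F V]
variable {m : ℕ} {P : Polar F V m} (Φ : Frame P)

omit [FiniteDimensional F V] in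
theorem core_eq_self {y : V} (hy : Φ.InCore y) : Φ.core y = y := by
  simp [core_apply, ca, cb, fun i => (hy i).1, fun i => (hy i).2]

omit [FiniteDimensional F V] in
theorem linearIndependent_frame : LinearIndependent F (Sum.elim Φ.e Φ.f) := by
  rw [Fintype.linearIndependent_iff]
  intro c hc i
  rw [Fintype.sum_sum_type] at hc
  simp only [Sum.elim_inl, Sum.elim_inr] at hc
  have h1 := fun q => Φ.B_comb (fun j => c (.inl j)) (fun j => c (.inr j)) q
  simp only [hc, map_zero] at h1
  rcases i with i | i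
  · exact (h1 i).2.symm
  · exact (mul_eq_zero.1 (h1 i).1.symm).resolve_right (Φ.sw_one_ne i)

theorem finrank_core : 2 * m + finrank F (LinearMap.range Φ.core) = finrank F V := by
  have h1 := LinearMap.finrank_range_add_finrank_ker Φ.core
  have hker : span F (Set.range (Sum.elim Φ.e Φ.f)) = LinearMap.ker Φ.core := by
    refine le_antisymm (span_le.2 ?_) fun v hv => ?_
    · rintro _ ⟨i, rfl⟩
      rw [SetLike.mem_coe, LinearMap.mem_ker]
      rcases i with i | i
      · simp [core_apply, ca, cb, Φ.fe, Φ.ee]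
      · simp [core_apply, ca, cb, Φ.ef, Φ.ff, Φ.sw_one_ne i]
    · rw [← Φ.decomp v, LinearMap.mem_ker.1 hv, add_zero]
      exact add_mem (sum_mem fun i _ => smul_mem _ _ (subset_span ⟨Sum.inl i, rfl⟩))
        (sum_mem fun i _ => smul_mem _ _ (subset_span ⟨Sum.inr i, rfl⟩))
  rw [← hker, finrank_span_eq_card Φ.linearIndependent_frame, Fintype.card_sum,
    Fintype.card_fin] at h1
  omega

omit [FiniteDimensional F V] in
/-- An isometry fixing the frame is determined on the core. -/
theorem eq_one_of_core {φ : Module.End F V} (h : ∀ i, φ (Φ.e i) = Φ.e i ∧ φ (Φ.f i) = Φ.f i)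
    (hcore : ∀ y, Φ.InCore y → φ y = y) : φ = 1 := by
  refine LinearMap.ext fun v => ?_
  conv_lhs => rw [← Φ.decomp v]
  simp only [map_add, map_sum, map_smul, fun i => (h i).1, fun i => (h i).2,
    hcore _ (Φ.inCore_core v)]
  exact Φ.decomp v

omit [FiniteDimensional F V] in
theorem inCore_map {φ : Module.End F V} (hφ : IsIso P φ)
    (h : ∀ i, φ (Φ.e i) = Φ.e i ∧ φ (Φ.f i) = Φ.f i) {y : V} (hy : Φ.InCore y) :
    Φ.InCore (φ y) := fun i => by
  refine ⟨?_, ?_⟩
  · rw [← (h i).1, hφ.1]; exact (hy i).1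
  · rw [← (h i).2, hφ.1]; exact (hy i).2

/-- An isometry of `p`-power order fixing a frame is trivial when the core is at most a line. -/
theorem eq_one_of_small (p : ℕ) [Fact p.Prime] [CharP F p] (hsmall : finrank F V ≤ 2 * m + 1)
    {φ : Module.End F V} (hφ : IsIso P φ) {n : ℕ} (hn : φ ^ (p ^ n) = 1)
    (h : ∀ i, φ (Φ.e i) = Φ.e i ∧ φ (Φ.f i) = Φ.f i) : φ = 1 := by
  refine Φ.eq_one_of_core h fun y hy => ?_
  rcases eq_or_ne y 0 with rfl | hy0
  · exact map_zero φ
  have hd : finrank F (LinearMap.range Φ.core) ≤ 1 := by have := Φ.finrank_core; omega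
  have hmem : ∀ z, Φ.InCore z → z ∈ LinearMap.range Φ.core := fun z hz => ⟨z, Φ.core_eq_self hz⟩
  obtain ⟨t, ht⟩ : ∃ t : F, t • y = φ y := by
    have h1 : span F {y} = LinearMap.range Φ.core :=
      eq_of_le_of_finrank_le ((span_singleton_le_iff_mem _ _).2 (hmem y hy))
        (by rw [finrank_span_singleton hy0]; exact hd)
    exact mem_span_singleton.1 (h1 ▸ hmem _ (Φ.inCore_map hφ h hy))
  have hpow : ∀ k : ℕ, (φ ^ k) y = t ^ k • y := by
    intro k
    induction k with
    | zero => simp
    | succ k ih => rw [pow_succ', Module.End.mul_apply, ih, map_smul, ← ht, smul_smul, ← pow_succ]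
  have h1 : t ^ (p ^ n) = 1 := by
    refine smul_left_injective F hy0 ?_
    simp only [one_smul]
    rw [← hpow, hn, Module.End.one_apply]
  have h2 := sub_pow_char_pow (n := n) (p := p) t 1
  rw [one_pow, h1, sub_self] at h2
  rw [← ht, sub_eq_zero.1 (eq_zero_of_pow_eq_zero h2), one_smul]

/-- A core vector moves the last member of the frame. -/
theorem exists_move (hbig : 2 * m < finrank F V) (r : Fin m) :
    ∃ z, z ≠ 0 ∧ P.Q (Φ.f r + z) = 0 ∧
      (∀ q, P.B (Φ.e q) z = 0) ∧ ∀ q, q ≠ r → P.B (Φ.f q) z = 0 := by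
  have hne : LinearMap.range Φ.core ≠ ⊥ := fun h0 => by
    have := Φ.finrank_core
    rw [h0, finrank_bot] at this
    omega
  obtain ⟨y, ⟨v, rfl⟩, hy0⟩ := exists_mem_ne_zero_of_ne_bot hne
  have hy := Φ.inCore_core v
  have hB : P.B (Φ.e r) (Φ.f r + Φ.core v) ≠ 0 := by
    rw [map_add, (hy r).1, add_zero, Φ.ef, if_pos rfl]
    exact Φ.sw_one_ne r
  obtain ⟨t, ht⟩ := P.partner _ _ (Φ.sing_e r) hB
  refine ⟨Φ.core v + t • Φ.e r, fun h0 => ?_, by rwa [add_assoc] at ht, fun q => ?_, fun q hq => ?_⟩
  · have := congrArg (P.B (Φ.f r)) h0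
    simp [(hy r).2, Φ.fe] at this
    rw [this, zero_smul, add_zero] at h0
    exact hy0 h0
  · simp [(hy q).1, Φ.ee]
  · simp [(hy q).2, Φ.fe, hq]

end Cfsg.Agent.Steinberg.Polar.Frame
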