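import Cfsg.Agent.Lib.Steinberg.Chamber

/-!
# Frames, apartments, and unipotent isometries given by a pair of frames
-/

set_option autoImplicit false

open Module Submodule

namespace Cfsg.Agent.Steinberg.Polar

variable {F : Type*} [Field F] {V : Type*} [AddCommGroup V] [Module F V] {m : ℕ}

theorem perm_eq_one_of_le {k : ℕ} (π : Equiv.Perm (Fin k)) (h : ∀ p, π p ≤ p) : π = 1 := by
  have h1 : ∀ p, π p = p := by
    intro p
    induction p using WellFoundedLT.induction with
    | _ p ih => exact (h p).antisymm (not_lt.1 fun hlt => hlt.ne (π.injective (ih _ hlt)))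
  exact Equiv.ext h1

/-- A hyperbolic frame of rank the index of the polar space. -/
structure Frame (P : Polar F V m) where
  e : Fin m → V
  f : Fin m → V
  sing_e : ∀ i, P.Q (e i) = 0
  sing_f : ∀ i, P.Q (f i) = 0
  ee : ∀ i j, P.B (e i) (e j) = 0
  ff : ∀ i j, P.B (f i) (f j) = 0
  fe : ∀ i j, P.B (f i) (e j) = if i = j then 1 else 0

variable {P : Polar F V m}

namespace Frame

variable (Φ : Frame P)

theorem ef (i j : Fin m) : P.B (Φ.e i) (Φ.f j) = if i = j then P.sw 1 else 0 := by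
  rw [P.swap, Φ.fe]
  by_cases h : i = j
  · rw [if_pos h.symm, if_pos h]
  · rw [if_neg fun h' => h h'.symm, if_neg h, P.sw_zero]

theorem sw_one_ne (Φ : Frame P) (i : Fin m) : P.sw 1 ≠ 0 := fun h => by
  have h1 := Φ.ef i i
  rw [if_pos rfl, h] at h1
  have h2 := P.refl h1
  rw [Φ.fe, if_pos rfl] at h2
  exact one_ne_zero h2

/-- Signed permutations. -/
abbrev Wt (m : ℕ) := Equiv.Perm (Fin m) × (Fin m → Bool)

/-- The vector at position `p`. -/
def vec (w : Wt m) (p : Fin m) : V := bif w.2 p then Φ.f (w.1 p) else Φ.e (w.1 p)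

/-- Its partner. -/
def pv (w : Wt m) (p : Fin m) : V := bif w.2 p then Φ.e (w.1 p) else Φ.f (w.1 p)

theorem vec_vec (w : Wt m) (p q : Fin m) : P.B (Φ.vec w p) (Φ.vec w q) = 0 := by
  unfold vec
  rcases eq_or_ne p q with rfl | h
  · cases w.2 p <;> simp [Φ.ee, Φ.ff]
  · have h' : w.1 p ≠ w.1 q := fun e => h (w.1.injective e)
    cases w.2 p <;> cases w.2 q <;> simp [Φ.ee, Φ.ff, Φ.ef, Φ.fe, h']

theorem pv_vec (w : Wt m) (p q : Fin m) (h : p ≠ q) : P.B (Φ.pv w p) (Φ.vec w q) = 0 := by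
  have h' : w.1 p ≠ w.1 q := fun e => h (w.1.injective e)
  unfold pv vec
  cases w.2 p <;> cases w.2 q <;> simp [Φ.ee, Φ.ff, Φ.ef, Φ.fe, h']

theorem pv_self (w : Wt m) (p : Fin m) : P.B (Φ.pv w p) (Φ.vec w p) ≠ 0 := by
  unfold pv vec
  cases w.2 p
  · simp [Φ.fe]
  · simpa [Φ.ef] using Φ.sw_one_ne (w.1 p)

theorem linearIndependent_vec (w : Wt m) : LinearIndependent F (Φ.vec w) := by
  rw [Fintype.linearIndependent_iff]
  intro c hc p
  have := congrArg (P.B (Φ.pv w p)) hc
  rw [map_sum, map_zero, Finset.sum_eq_single p (fun q _ hq => by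
    rw [map_smul, Φ.pv_vec w p q hq.symm, smul_zero]) (by simp), map_smul, smul_eq_mul] at this
  exact (mul_eq_zero.1 this).resolve_right (Φ.pv_self w p)

theorem sing_vec (w : Wt m) (p : Fin m) : P.Q (Φ.vec w p) = 0 := by
  unfold vec
  cases w.2 p
  · exact Φ.sing_e _
  · exact Φ.sing_f _

theorem ts_vec (w : Wt m) (S : Set (Fin m)) : P.TS (span F (Φ.vec w '' S)) :=
  P.ts_span (by rintro _ ⟨p, -, rfl⟩; exact Φ.sing_vec w p)
    (by rintro _ ⟨p, -, rfl⟩ _ ⟨q, -, rfl⟩; exact Φ.vec_vec w p q)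

/-- The chamber of a signed permutation. -/
def ch (w : Wt m) : P.Cham where
  sub i := span F (Φ.vec w '' {p | (p : ℕ) < i})
  mono i j h := span_mono (Set.image_mono fun p (hp : (p : ℕ) < i) => lt_of_lt_of_le hp h)
  dim i hi := by
    have e : Φ.vec w '' {p | (p : ℕ) < i} = Set.range (fun q : Fin i => Φ.vec w (Fin.castLE hi q)) := by
      ext x
      constructor
      · rintro ⟨p, hp, rfl⟩; exact ⟨⟨p, hp⟩, rfl⟩
      · rintro ⟨q, rfl⟩; exact ⟨_, q.2, rfl⟩
    rw [e]
    exact (finrank_span_eq_card (ι := Fin i)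
      ((Φ.linearIndependent_vec w).comp _ (Fin.castLE_injective hi))).trans (Fintype.card_fin i)
  stab i hi := by
    congr 2
    ext p
    exact ⟨fun _ => p.2, fun _ => lt_of_lt_of_le p.2 hi⟩
  ts := Φ.ts_vec w _

theorem ch_sub (w : Wt m) (i : ℕ) :
    (Φ.ch w).sub i = span F (Φ.vec w '' {p | (p : ℕ) < i}) := rfl

theorem vec_mem (w : Wt m) (p : Fin m) {i : ℕ} (h : (p : ℕ) < i) :
    Φ.vec w p ∈ (Φ.ch w).sub i :=
  subset_span ⟨p, h, rfl⟩

theorem mem_perp_ch (w : Wt m) (i : ℕ) {x : V} :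
    x ∈ P.perp ((Φ.ch w).sub i) ↔ ∀ p : Fin m, (p : ℕ) < i → P.B (Φ.vec w p) x = 0 := by
  rw [ch_sub, P.mem_perp_span]
  exact ⟨fun h p hp => h _ ⟨p, hp, rfl⟩, by rintro h _ ⟨p, hp, rfl⟩; exact h p hp⟩

/-- The constant signed permutation. -/
def w1 (c : Bool) : Wt m := (1, fun _ => c)

/-- The base chamber. -/
def chC : P.Cham := Φ.ch (w1 false)

/-- Its opposite. -/
def chD : P.Cham := Φ.ch (w1 true)

theorem mem_perp_chC {i : ℕ} {x : V} :
    x ∈ P.perp (Φ.chC.sub i) ↔ ∀ p : Fin m, (p : ℕ) < i → P.B (Φ.e p) x = 0 :=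
  Φ.mem_perp_ch (w1 false) i

theorem e_mem (p : Fin m) {i : ℕ} (h : (p : ℕ) < i) : Φ.e p ∈ Φ.chC.sub i :=
  Φ.vec_mem (w1 false) p h

theorem opp_w1 [FiniteDimensional F V] (c : Bool) : Opp (Φ.ch (w1 c)) (Φ.ch (w1 (!c))) := by
  intro i hi
  rw [eq_bot_iff]
  intro x hx
  obtain ⟨hx1, hx2⟩ := Submodule.mem_inf.1 hx
  rw [Φ.mem_perp_ch] at hx2
  rw [ch_sub, mem_span_image_iff_exists_fun] at hx1
  obtain ⟨S, hS, a, rfl⟩ := hx1
  refine (mem_bot F).2 (Finset.sum_eq_zero fun q _ => ?_)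
  have h := hx2 q (hS q.2)
  rw [map_sum, Finset.sum_eq_single q] at h
  · rw [map_smul, smul_eq_mul] at h
    have hne : P.B (Φ.vec (w1 c) q) (Φ.vec (w1 (!c)) q) ≠ 0 := by
      have := Φ.pv_self (w1 (!c)) q
      cases c <;> simpa [pv, vec, w1] using this
    rw [(mul_eq_zero.1 h).resolve_right hne, zero_smul]
  · intro r _ hr
    have hne : (q : Fin m) ≠ r := fun e => hr (Subtype.ext e.symm)
    have h0 : P.B (Φ.vec (w1 c) q) (Φ.vec (w1 (!c)) r) = 0 := by
      cases c <;> simp [vec, w1, Φ.ef, Φ.fe, hne]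
    rw [map_smul, h0, smul_zero]
  · simp

theorem eq_w1_of_opp {c : Bool} {w : Wt m} (h : Opp (Φ.ch (w1 c)) (Φ.ch w)) : w = w1 (!c) := by
  have key : ∀ p : Fin m, ∀ i ≤ m, (p : ℕ) < i →
      ∃ q : Fin m, (q : ℕ) < i ∧ P.B (Φ.vec (w1 c) q) (Φ.vec w p) ≠ 0 := by
    intro p i hi hp
    by_contra hno
    push Not at hno
    have hmem : Φ.vec w p ∈ (Φ.ch w).sub i ⊓ P.perp ((Φ.ch (w1 c)).sub i) :=
      Submodule.mem_inf.2 ⟨Φ.vec_mem w p hp, (Φ.mem_perp_ch _ _).2 hno⟩
    rw [h i hi, mem_bot] at hmem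
    exact (Φ.linearIndependent_vec w).ne_zero p hmem
  have hb : ∀ p, w.2 p = !c := by
    intro p
    obtain ⟨q, -, hq⟩ := key p m le_rfl p.2
    revert hq
    cases c <;> cases hwp : w.2 p <;> simp [vec, w1, hwp, Φ.ee, Φ.ff]
  have hπ : w.1 = 1 := perm_eq_one_of_le _ fun p => by
    obtain ⟨q, hq, hne⟩ := key p (p + 1) p.2 (Nat.lt_succ_self _)
    have he : q = w.1 p := by
      by_contra hne'
      refine hne ?_
      cases c <;> simp [vec, w1, hb p, Φ.ef, Φ.fe, hne']
    exact he ▸ Fin.le_def.2 (Nat.lt_succ_iff.1 hq)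
  exact Prod.ext hπ (funext hb)

/-! ### The apartment function -/

/-- The sign of a signed permutation. -/
noncomputable def sgn (w : Wt m) : ℂ :=
  ((Equiv.Perm.sign w.1 : ℤ) : ℂ) * ∏ p, (bif w.2 p then (-1 : ℂ) else 1)

theorem sgn_ne (w : Wt m) : sgn w ≠ 0 := by
  refine mul_ne_zero ?_ (Finset.prod_ne_zero_iff.2 fun p _ => by cases w.2 p <;> simp)
  rcases Int.units_eq_one_or (Equiv.Perm.sign w.1) with h | h <;> simp [h]

open scoped _root_.Classical in
/-- The alternating sum of the chambers of the apartment. -/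
noncomputable def ap : P.Cham → ℂ := fun X => ∑ w : Wt m, if Φ.ch w = X then sgn w else 0

theorem exists_of_ap_ne {X : P.Cham} (h : Φ.ap X ≠ 0) : ∃ w, Φ.ch w = X := by
  classical
  obtain ⟨w, -, hw⟩ := Finset.exists_ne_zero_of_sum_ne_zero h
  exact ⟨w, by_contra fun hne => hw (if_neg hne)⟩

theorem ap_opp [FiniteDimensional F V] {c : Bool} {X : P.Cham} (h : Opp (Φ.ch (w1 c)) X) :
    (X = Φ.ch (w1 (!c)) → Φ.ap X = sgn (w1 (m := m) (!c))) ∧ (X ≠ Φ.ch (w1 (!c)) → Φ.ap X = 0) := by
  classical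
  refine ⟨fun hX => ?_, fun hX => ?_⟩
  · unfold ap
    rw [Finset.sum_eq_single (w1 (!c)) ?_ (by simp), if_pos hX.symm]
    intro w _ hw
    exact if_neg fun he => hw (Φ.eq_w1_of_opp (show Opp (Φ.ch (w1 c)) (Φ.ch w) by rw [he]; exact h))
  · refine Finset.sum_eq_zero fun w _ => if_neg fun he => hX ?_
    rw [← he, Φ.eq_w1_of_opp (show Opp (Φ.ch (w1 c)) (Φ.ch w) by rw [he]; exact h)]

theorem ap_chD [FiniteDimensional F V] : Φ.ap Φ.chD = sgn (w1 (m := m) true) :=
  (Φ.ap_opp (c := false) (Φ.opp_w1 false)).1 rfl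

theorem ap_chC [FiniteDimensional F V] : Φ.ap Φ.chC = sgn (w1 (m := m) false) :=
  (Φ.ap_opp (c := true) (Φ.opp_w1 true)).1 rfl

theorem ap_mem [FiniteDimensional F V] [Finite V] : Φ.ap ∈ steinSpace P := by
  classical
  have := Fintype.ofFinite P.Cham
  rw [mem_steinSpace]
  intro k hk1 hkm X
  have e1 : ∑ D : P.Cham, {D : P.Cham | Adj k X D}.indicator Φ.ap D =
      ∑ w : Wt m, if Adj k X (Φ.ch w) then sgn w else 0 := by
    simp only [Set.indicator_apply, Set.mem_ofPred_eq, ap]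
    rw [Finset.sum_congr rfl fun D _ => show (if Adj k X D then
        ∑ w : Wt m, (if Φ.ch w = D then sgn w else 0) else 0) =
      ∑ w : Wt m, (if Φ.ch w = D then (if Adj k X D then sgn w else 0) else 0) by
        split_ifs with h
        · rfl
        · simp, Finset.sum_comm]
    exact Finset.sum_congr rfl fun w _ => by simp
  rw [e1]
  obtain ⟨τ, hτ, hch⟩ : ∃ τ : Wt m ≃ Wt m, (∀ w, sgn (τ w) = - sgn w) ∧
      ∀ w, Adj k (Φ.ch w) (Φ.ch (τ w)) := by
    rcases lt_or_eq_of_le hkm with hlt | heq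
    · let s : Equiv.Perm (Fin m) := Equiv.swap ⟨k - 1, by omega⟩ ⟨k, hlt⟩
      refine ⟨(Equiv.mulRight s).prodCongr (Equiv.arrowCongr s (Equiv.refl Bool)), fun w => ?_,
        fun w i hi hik => ?_⟩
      · have hsign : Equiv.Perm.sign s = -1 := Equiv.Perm.sign_swap (by
          simp only [ne_eq, Fin.mk.injEq]; omega)
        simp only [sgn, Equiv.prodCongr_apply, Prod.map_fst, Prod.map_snd, Equiv.coe_mulRight,
          map_mul, hsign, Equiv.arrowCongr_apply, Equiv.coe_refl, Function.comp_apply, id]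
        rw [Equiv.prod_comp s.symm (fun p => (bif w.2 p then (-1 : ℂ) else 1))]
        simp
      · show span F _ = span F _
        congr 1
        have hs : ∀ p : Fin m, ((s p : Fin m) : ℕ) < i ↔ (p : ℕ) < i := by
          intro p
          show ((Equiv.swap _ _ p : Fin m) : ℕ) < i ↔ _
          rw [Equiv.swap_apply_def]
          split_ifs with h1 h2
          · subst h1; simp only; omega
          · subst h2; simp only; omega
          · rfl
        have hv : ∀ p, Φ.vec ((Equiv.mulRight s).prodCongr (Equiv.arrowCongr s (Equiv.refl Bool)) w) p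
            = Φ.vec w (s p) := fun p => by
          simp [vec, s, Equiv.swap_apply_self]
        ext x
        constructor
        · rintro ⟨p, hp, rfl⟩
          refine ⟨s p, (hs p).2 hp, ?_⟩
          rw [hv]; simp [s]
        · rintro ⟨p, hp, rfl⟩
          exact ⟨s p, (hs p).2 hp, (hv p).symm⟩
    · let l : Fin m := ⟨m - 1, by omega⟩
      have hinv : Function.Involutive fun b : Fin m → Bool => Function.update b l (!b l) := by
        intro b; simp
      refine ⟨(Equiv.refl _).prodCongr hinv.toPerm, fun w => ?_, fun w i hi hik => ?_⟩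
      · simp only [sgn, Equiv.prodCongr_apply, Prod.map_fst, Prod.map_snd, Equiv.coe_refl, id,
          Function.Involutive.coe_toPerm]
        rw [← Finset.mul_prod_erase _ _ (Finset.mem_univ l),
          ← Finset.mul_prod_erase _ _ (Finset.mem_univ l), Function.update_self,
          Finset.prod_congr rfl (g := fun p => bif w.2 p then (-1 : ℂ) else 1) fun p hp => by
            rw [Function.update_of_ne (Finset.ne_of_mem_erase hp)]]
        cases w.2 l <;> simp
      · show span F _ = span F _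
        congr 1
        refine Set.image_congr fun p (hp : (p : ℕ) < i) => ?_
        have hpl : p ≠ l := fun e => by
          rw [e] at hp; simp only [l] at hp; omega
        simp [vec, Function.update_of_ne hpl]
  set S := ∑ w : Wt m, if Adj k X (Φ.ch w) then sgn w else 0 with hS
  have hneg : S = -S := by
    conv_lhs => rw [hS, ← Equiv.sum_comp τ]
    rw [hS, ← Finset.sum_neg_distrib]
    refine Finset.sum_congr rfl fun w _ => ?_
    have hiff : Adj k X (Φ.ch (τ w)) ↔ Adj k X (Φ.ch w) :=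
      ⟨fun h => h.trans (hch w).symm, fun h => h.trans (hch w)⟩
    simp only [hiff, hτ]
    split_ifs <;> simp
  exact self_eq_neg.1 hneg

end Frame

/-! ### Frames through two opposite chambers -/

theorem exists_frame [FiniteDimensional F V] {C D : P.Cham} (h : Opp C D) (a : Fin m → V)
    (ha : ∀ i : Fin m, a i ∈ C.sub (i + 1) ∧ a i ∉ C.sub i) :
    ∃ Φ : Frame P, Φ.chC = C ∧ Φ.chD = D ∧ ∀ i : Fin m, Φ.e i - a i ∈ C.sub i := by
  have hE : ∀ i : Fin m, ∃ e, e ∈ C.sub (i + 1) ∧ e ∈ P.perp (D.sub i) ∧ e ∉ C.sub i ∧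
      e - a i ∈ C.sub i := by
    intro i
    have hi : (i : ℕ) + 1 ≤ m := i.2
    have hne : C.sub (i + 1) ⊓ P.perp (D.sub i) ≠ ⊥ := fun h0 => by
      have h1 := Submodule.finrank_sup_add_finrank_inf_eq (C.sub (i + 1)) (P.perp (D.sub i))
      rw [h0, finrank_bot, C.dim _ hi] at h1
      have h2 := finrank_perp_sub D (i := i) (by omega)
      have h3 := Submodule.finrank_le (C.sub (i + 1) ⊔ P.perp (D.sub i))
      omega
    obtain ⟨w, hw, hw0⟩ := exists_mem_ne_zero_of_ne_bot hne
    obtain ⟨hw1, hw2⟩ := Submodule.mem_inf.1 hw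
    have hwC : w ∉ C.sub i := fun hc => hw0 ((mem_bot F).1
      ((h.symm i (by omega)) ▸ Submodule.mem_inf.2 ⟨hc, hw2⟩))
    have hsup : C.sub i ⊔ span F {w} = C.sub (i + 1) := by
      refine eq_of_le_of_finrank_le (sup_le (C.mono (Nat.le_succ _))
        ((span_singleton_le_iff_mem _ _).2 hw1)) ?_
      have := finrank_lt_finrank_of_lt (lt_of_le_of_ne le_sup_left fun he =>
        hwC (he ▸ mem_sup_right (mem_span_singleton_self w)) : C.sub i < C.sub i ⊔ span F {w})
      rw [C.dim i (by omega)] at this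
      rw [C.dim _ hi]; omega
    obtain ⟨c, hc, y, hy, hcy⟩ := mem_sup.1 (hsup ▸ (ha i).1 : a i ∈ C.sub i ⊔ span F {w})
    obtain ⟨t, rfl⟩ := mem_span_singleton.1 hy
    have ht : t ≠ 0 := fun ht => (ha i).2 (by rw [← hcy, ht, zero_smul, add_zero]; exact hc)
    refine ⟨t • w, smul_mem _ _ hw1, smul_mem _ _ hw2,
      fun hc' => hwC ((smul_mem_iff _ ht).1 hc'), ?_⟩
    rw [← hcy, sub_add_cancel_right]
    exact neg_mem hc
  choose e he1 he2 he3 he4 using hE
  have hF : ∀ i : Fin m, ∃ f, f ∈ D.sub (i + 1) ∧ f ∈ P.perp (C.sub i) ∧ P.B f (e i) = 1 := by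
    intro i
    have hi : (i : ℕ) + 1 ≤ m := i.2
    have hne : D.sub (i + 1) ⊓ P.perp (C.sub i) ≠ ⊥ := fun h0 => by
      have h1 := Submodule.finrank_sup_add_finrank_inf_eq (D.sub (i + 1)) (P.perp (C.sub i))
      rw [h0, finrank_bot, D.dim _ hi] at h1
      have h2 := finrank_perp_sub C (i := i) (by omega)
      have h3 := Submodule.finrank_le (D.sub (i + 1) ⊔ P.perp (C.sub i))
      omega
    obtain ⟨z, hz, hz0⟩ := exists_mem_ne_zero_of_ne_bot hne
    obtain ⟨hz1, hz2⟩ := Submodule.mem_inf.1 hz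
    have hB : P.B z (e i) ≠ 0 := fun h0 => by
      have hsup : C.sub i ⊔ span F {e i} = C.sub (i + 1) := by
        refine eq_of_le_of_finrank_le (sup_le (C.mono (Nat.le_succ _))
          ((span_singleton_le_iff_mem _ _).2 (he1 i))) ?_
        have := finrank_lt_finrank_of_lt (lt_of_le_of_ne le_sup_left fun he =>
          he3 i (he ▸ mem_sup_right (mem_span_singleton_self (e i))) :
            C.sub i < C.sub i ⊔ span F {e i})
        rw [C.dim i (by omega)] at this
        rw [C.dim _ hi]; omega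
      refine hz0 ((mem_bot F).1 ((h (i + 1) hi) ▸ Submodule.mem_inf.2 ⟨hz1, ?_⟩))
      rw [← hsup, P.mem_perp_sup]
      exact ⟨hz2, P.mem_perp_span.2 (by rintro _ rfl; exact P.refl h0)⟩
    obtain ⟨c, hc⟩ := P.sig_surj (P.B z (e i))⁻¹
    refine ⟨c • z, smul_mem _ _ hz1, smul_mem _ _ hz2, ?_⟩
    rw [LinearMap.map_smulₛₗ, LinearMap.smul_apply, hc, smul_eq_mul, inv_mul_cancel₀ hB]
  choose f hf1 hf2 hf3 using hF
  have he' : ∀ i, e i ∈ C.sub m := fun i => C.le_top _ (he1 i)
  have hf' : ∀ i, f i ∈ D.sub m := fun i => D.le_top _ (hf1 i)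
  let Φ : Frame P :=
    { e := e, f := f
      sing_e := fun i => C.ts.1 _ (he' i)
      sing_f := fun i => D.ts.1 _ (hf' i)
      ee := fun i j => C.ts.2 _ (he' i) _ (he' j)
      ff := fun i j => D.ts.2 _ (hf' i) _ (hf' j)
      fe := fun i j => by
        rcases lt_trichotomy i j with hij | rfl | hij
        · rw [if_neg hij.ne]
          exact he2 j _ (D.mono (Fin.lt_def.1 hij) (hf1 i))
        · rw [if_pos rfl, hf3]
        · rw [if_neg hij.ne']
          exact P.refl (hf2 i _ (C.mono (Fin.lt_def.1 hij) (he1 j))) }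
  refine ⟨Φ, Cham.ext' fun i hi => ?_, Cham.ext' fun i hi => ?_, he4⟩
  · refine eq_of_le_of_finrank_eq (span_le.2 ?_) ((Φ.chC.dim i hi).trans (C.dim i hi).symm)
    rintro _ ⟨p, hp, rfl⟩
    exact C.mono (Nat.succ_le_of_lt hp) (he1 p)
  · refine eq_of_le_of_finrank_eq (span_le.2 ?_) ((Φ.chD.dim i hi).trans (D.dim i hi).symm)
    rintro _ ⟨p, hp, rfl⟩
    exact D.mono (Nat.succ_le_of_lt hp) (hf1 p)

/-! ### Opposite chambers exist -/

theorem exists_adj_ne [FiniteDimensional F V] (D : P.Cham) {k : ℕ} (h1 : 1 ≤ k) (hkm : k ≤ m) :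
    ∃ D' : P.Cham, Adj k D D' ∧ D' ≠ D := by
  obtain ⟨y, hyk, hy0, hy1, hyD⟩ : ∃ y, y ∈ up D k ∧ P.Q y = 0 ∧
      y ∈ P.perp (D.sub (k - 1)) ∧ y ∉ D.sub k := by
    rcases lt_or_eq_of_le hkm with hlt | rfl
    · obtain ⟨y, hy, hyn⟩ := SetLike.not_le_iff_exists.1 (show ¬ D.sub (k + 1) ≤ D.sub k from
        fun hle => by have := finrank_mono hle; rw [D.dim _ hlt, D.dim _ hlt.le] at this; omega)
      exact ⟨y, by rw [up, if_pos hlt]; exact hy, (D.ts' _).1 y hy,
        P.perp_anti (D.mono (by omega)) (P.ts_le_perp (D.ts' _) hy), hyn⟩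
    · obtain ⟨x, hx, hxn⟩ := SetLike.not_le_iff_exists.1 (show ¬ D.sub k ≤ D.sub (k - 1) from
        fun hle => by
          have := finrank_mono hle; rw [D.dim _ le_rfl, D.dim _ (Nat.sub_le k 1)] at this; omega)
      have hsup : D.sub k ≤ D.sub (k - 1) ⊔ span F {x} := by
        refine (eq_of_le_of_finrank_le (sup_le (D.le_top _)
          ((span_singleton_le_iff_mem _ _).2 hx)) ?_).ge
        have := finrank_lt_finrank_of_lt (lt_of_le_of_ne le_sup_left fun he =>
          hxn (he ▸ mem_sup_right (mem_span_singleton_self x)) :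
            D.sub (k - 1) < D.sub (k - 1) ⊔ span F {x})
        rw [D.dim _ (Nat.sub_le k 1)] at this
        rw [D.dim _ le_rfl]; omega
      obtain ⟨y0, hy0, hB⟩ : ∃ y0 ∈ P.perp (D.sub (k - 1)), P.B x y0 ≠ 0 := by
        by_contra hno
        push Not at hno
        have hle : P.perp (D.sub (k - 1)) ≤ P.perp (D.sub k) := fun v hv =>
          P.perp_anti hsup ((P.mem_perp_sup).2 ⟨hv, P.mem_perp_span.2 (by
            rintro _ rfl; exact hno v hv)⟩)
        have := finrank_mono hle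
        have := finrank_perp_sub D (Nat.sub_le k 1)
        have := finrank_perp_sub D (le_refl k)
        omega
      obtain ⟨t, ht⟩ := P.partner x y0 (D.ts.1 x hx) hB
      refine ⟨y0 + t • x, ?_, ht, ?_, fun hc => hB ?_⟩
      · rw [up, if_neg (lt_irrefl k)]
        exact add_mem hy0 (smul_mem _ _ (P.perp_anti (D.le_top _) (P.ts_le_perp D.ts hx)))
      · exact add_mem hy0 (smul_mem _ _ (P.perp_anti (D.le_top _) (P.ts_le_perp D.ts hx)))
      · have := D.ts.2 x hx _ hc
        rwa [map_add, map_smul, D.ts.2 x hx x hx, smul_zero, add_zero] at this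
  set N := D.sub (k - 1) ⊔ span F {y} with hN
  have hNts : P.TS N := P.ts_sup (D.ts' _) (P.ts_span_singleton hy0)
    ((span_singleton_le_iff_mem _ _).2 hy1)
  have hyn : y ∉ D.sub (k - 1) := fun hc => hyD (D.mono (Nat.sub_le k 1) hc)
  have hNd : finrank F N = k := by
    rw [hN, finrank_sup_span_singleton hyn, D.dim _ (by omega)]
    omega
  have hNup : k < m → N ≤ D.sub (k + 1) := fun hk => by
    refine sup_le (D.mono (by omega)) ((span_singleton_le_iff_mem _ _).2 ?_)
    rwa [up, if_pos hk] at hyk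
  let sub' : ℕ → Submodule F V := fun i => if min i m = k then N else D.sub i
  refine ⟨⟨sub', ?_, ?_, ?_, ?_⟩, ?_, ?_⟩
  · refine monotone_nat_of_le_succ fun i => ?_
    show (if min i m = k then N else D.sub i) ≤ (if min (i + 1) m = k then N else D.sub (i + 1))
    split_ifs with a b b
    · exact le_rfl
    · exact (hNup (by omega)).trans (D.mono (by omega))
    · exact le_trans (D.mono (by omega)) le_sup_left
    · exact D.mono (Nat.le_succ i)
  · intro i hi
    by_cases a : min i m = k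
    · rw [show sub' i = N from if_pos a, hNd]; omega
    · rw [show sub' i = D.sub i from if_neg a]; exact D.dim i hi
  · intro i hi
    show (if min i m = k then N else D.sub i) = (if min m m = k then N else D.sub m)
    rw [min_eq_right hi, min_self, D.stab i hi]
  · show P.TS (if min m m = k then N else D.sub m)
    split_ifs
    · exact hNts
    · exact D.ts
  · intro i hi hik
    show D.sub i = if min i m = k then N else D.sub i
    rw [if_neg (by omega)]
  · intro he
    refine hyD ?_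
    have : sub' k = D.sub k := congrArg (fun C : P.Cham => C.sub k) he
    rw [show sub' k = N from if_pos (min_eq_left hkm)] at this
    exact this ▸ mem_sup_right (mem_span_singleton_self y)

theorem exists_cham [FiniteDimensional F V] (P : Polar F V m) : Nonempty P.Cham := by
  obtain ⟨X, hd, h0, h1⟩ := P.exists_top
  let b := Module.finBasisOfFinrankEq F X hd
  refine ⟨⟨fun i => span F ((fun p => (b p : V)) '' {p | (p : ℕ) < i}),
    fun i j h => span_mono (Set.image_mono fun p (hp : (p : ℕ) < i) => lt_of_lt_of_le hp h),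
    fun i hi => ?_, fun i hi => ?_, ?_⟩⟩
  · have e : (fun p => (b p : V)) '' {p | (p : ℕ) < i} =
        Set.range (fun q : Fin i => (b (Fin.castLE hi q) : V)) := by
      ext x
      constructor
      · rintro ⟨p, hp, rfl⟩; exact ⟨⟨p, hp⟩, rfl⟩
      · rintro ⟨q, rfl⟩; exact ⟨_, q.2, rfl⟩
    rw [e]
    exact (finrank_span_eq_card (ι := Fin i) ((b.linearIndependent.map' X.subtype
      X.ker_subtype).comp _ (Fin.castLE_injective hi))).trans (Fintype.card_fin i)
  · congr 2
    ext p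
    exact ⟨fun _ => p.2, fun _ => lt_of_lt_of_le p.2 hi⟩
  · refine P.ts_mono ?_ (W' := X) ⟨h0, h1⟩
    exact span_le.2 (by rintro _ ⟨p, -, rfl⟩; exact (b p).2)

theorem exists_opp [FiniteDimensional F V] (C : P.Cham) : ∃ D, Opp C D := by
  by_contra hno
  push Not at hno
  suffices ∀ n, ∀ D, mu C D ≠ n from this _ C rfl
  intro n
  induction n using Nat.strong_induction_on with
  | _ n ih =>
    intro D hD
    obtain ⟨k, j, h1, h2, h3, hp⟩ := exists_pref (hno D)
    obtain ⟨D', ha, hne⟩ := exists_adj_ne D h1 h2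
    exact ih _ (hD ▸ mu_lt h1 h2 h3 hp ha hne) D' rfl

theorem exists_frame_of_opp [FiniteDimensional F V] {C D : P.Cham} (h : Opp C D) :
    ∃ Φ : Frame P, Φ.chC = C ∧ Φ.chD = D := by
  have : ∀ i : Fin m, ∃ a, a ∈ C.sub (i + 1) ∧ a ∉ C.sub i := fun i =>
    SetLike.not_le_iff_exists.1 fun hle => by
      have := finrank_mono hle
      rw [C.dim _ i.2, C.dim _ i.2.le] at this
      omega
  choose a ha using this
  obtain ⟨Φ, h1, h2, -⟩ := exists_frame h a ha
  exact ⟨Φ, h1, h2⟩

end Cfsg.Agent.Steinberg.Polar
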