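import Cfsg.Agent.Lib.Steinberg.Unip
import Cfsg.Agent.Lib.Characters.Kernel

/-!
# The Steinberg character of a group of isometries of a polar space
-/

set_option autoImplicit false

open Module Submodule

namespace Cfsg.Agent.Steinberg.Polar

variable {F : Type*} [Field F] {V : Type*} [AddCommGroup V] [Module F V] {m : ℕ}

/-- The signed permutation exchanging the last pair. -/
def Frame.wflip (m : ℕ) : Frame.Wt m := (1, fun p => decide ((p : ℕ) + 1 = m))

/-- A group of isometries containing the unipotent ones. -/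
structure Act (p : ℕ) (P : Polar F V m) (G : Type*) [Group G] where
  act : G →* Module.End F V
  iso : ∀ g, IsIso P (act g)
  faithful : Function.Injective act
  big : ∀ (C : P.Cham) (φ : V →ₗ[F] V), IsIso P φ → Unip C φ → ∃ g, act g = φ
  core_free : ∀ (Φ : Frame P) (g : G), (∃ n : ℕ, g ^ (p ^ n) = 1) →
    (∀ i, act g (Φ.e i) = Φ.e i ∧ act g (Φ.f i) = Φ.f i) → g = 1
  last : ∀ Φ : Frame P,
    (∀ r : Fin m, (r : ℕ) + 1 = m → ∃ z, z ≠ 0 ∧ P.Q (Φ.f r + z) = 0 ∧
      (∀ q, P.B (Φ.e q) z = 0) ∧ ∀ q, q ≠ r → P.B (Φ.f q) z = 0) ∨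
    ∀ g : G, (Φ.chC.sub m).map (act g) ≠ (Φ.ch (Frame.wflip m)).sub m

namespace Act

variable {p : ℕ} {P : Polar F V m} {G : Type*} [Group G] (A : Act p P G)

theorem act_mul (g h : G) (x : V) : A.act (g * h) x = A.act g (A.act h x) := by
  rw [map_mul]; rfl

theorem act_one (x : V) : A.act 1 x = x := by rw [map_one]; rfl

theorem act_inv_cancel (g : G) (x : V) : A.act g⁻¹ (A.act g x) = x := by
  rw [← act_mul, inv_mul_cancel, act_one]

theorem act_cancel_inv (g : G) (x : V) : A.act g (A.act g⁻¹ x) = x := by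
  rw [← act_mul, mul_inv_cancel, act_one]

/-- The action on chambers. -/
def mv (g : G) (C : P.Cham) : P.Cham where
  sub i := (C.sub i).map (A.act g)
  mono i j h := Submodule.map_mono (C.mono h)
  dim i hi := by
    rw [← (Submodule.equivMapOfInjective _ (A.iso g).injective (C.sub i)).finrank_eq, C.dim i hi]
  stab i hi := by rw [C.stab i hi]
  ts := by
    refine ⟨?_, ?_⟩
    · rintro _ ⟨x, hx, rfl⟩; rw [(A.iso g).2]; exact C.ts.1 x hx
    · rintro _ ⟨x, hx, rfl⟩ _ ⟨y, hy, rfl⟩; rw [(A.iso g).1]; exact C.ts.2 x hx y hy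

theorem mv_sub (g : G) (C : P.Cham) (i : ℕ) : (A.mv g C).sub i = (C.sub i).map (A.act g) := rfl

theorem mv_mul (g h : G) (C : P.Cham) : A.mv (g * h) C = A.mv g (A.mv h C) :=
  Cham.ext' fun i _ => by rw [mv_sub, mv_sub, mv_sub, map_mul, Module.End.mul_eq_comp, Submodule.map_comp]

theorem mv_one (C : P.Cham) : A.mv 1 C = C :=
  Cham.ext' fun i _ => by rw [mv_sub, map_one, Module.End.one_eq_id, Submodule.map_id]

theorem mv_inv_cancel (g : G) (C : P.Cham) : A.mv g⁻¹ (A.mv g C) = C := by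
  rw [← mv_mul, inv_mul_cancel, mv_one]

theorem mv_cancel_inv (g : G) (C : P.Cham) : A.mv g (A.mv g⁻¹ C) = C := by
  rw [← mv_mul, mul_inv_cancel, mv_one]

theorem mv_eq_iff {g : G} {C D : P.Cham} : A.mv g C = D ↔ C = A.mv g⁻¹ D :=
  ⟨fun h => by rw [← h, mv_inv_cancel], fun h => by rw [h, mv_cancel_inv]⟩

theorem opp_mv {C D : P.Cham} (h : Opp C D) (g : G) : Opp (A.mv g C) (A.mv g D) := by
  intro i hi
  rw [eq_bot_iff]
  rintro _ ⟨⟨d, hd, rfl⟩, hd2⟩
  have hdC : d ∈ P.perp (C.sub i) := fun c hc => by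
    rw [← (A.iso g).1]; exact hd2 _ ⟨c, hc, rfl⟩
  have : d ∈ D.sub i ⊓ P.perp (C.sub i) := Submodule.mem_inf.2 ⟨hd, hdC⟩
  rw [h i hi, mem_bot] at this
  rw [this, map_zero]
  exact zero_mem _

theorem adj_mv_iff {k : ℕ} {C D : P.Cham} (g : G) : Adj k (A.mv g C) (A.mv g D) ↔ Adj k C D := by
  refine ⟨fun h i h1 h2 => ?_, fun h i h1 h2 => by rw [mv_sub, mv_sub, h i h1 h2]⟩
  exact Submodule.map_injective_of_injective (A.iso g).injective (h i h1 h2)

variable [FiniteDimensional F V]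

theorem unip_mul {C : P.Cham} {g h : G} (hg : Unip C (A.act g)) (hh : Unip C (A.act h)) :
    Unip C (A.act (g * h)) := by
  refine ⟨fun i hi x hx => ?_, fun x hx => ?_⟩
  · rw [act_mul, show A.act g (A.act h x) - x = A.act g (A.act h x - x) + (A.act g x - x) by
      rw [map_sub]; abel]
    exact add_mem (hg.map_le i _ (hh.1 i hi x hx)) (hg.1 i hi x hx)
  · rw [act_mul, show A.act g (A.act h x) - x = A.act g (A.act h x - x) + (A.act g x - x) by
      rw [map_sub]; abel]
    exact add_mem (hg.map_le m _ (hh.2 x hx)) (hg.2 x hx)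

omit [FiniteDimensional F V] in
theorem unip_one (C : P.Cham) : Unip C (A.act 1) :=
  ⟨fun i _ x _ => by rw [act_one, sub_self]; exact zero_mem _,
    fun x _ => by rw [act_one, sub_self]; exact zero_mem _⟩

theorem unip_pow {C : P.Cham} {g : G} (hg : Unip C (A.act g)) : ∀ n : ℕ, Unip C (A.act (g ^ n))
  | 0 => by rw [pow_zero]; exact A.unip_one C
  | n + 1 => by rw [pow_succ]; exact A.unip_mul (unip_pow hg n) hg

variable [Finite G]

/-- The unipotent radical of a chamber stabiliser. -/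
def U (C : P.Cham) : Subgroup G where
  carrier := {g | Unip C (A.act g)}
  one_mem' := A.unip_one C
  mul_mem' := A.unip_mul
  inv_mem' {g} hg := by
    show Unip C (A.act g⁻¹)
    have h : g⁻¹ = g ^ (orderOf g - 1) := by
      refine inv_eq_of_mul_eq_one_right ?_
      rw [← pow_succ', Nat.sub_add_cancel (orderOf_pos g), pow_orderOf_eq_one]
    rw [h]
    exact A.unip_pow hg _

theorem mem_U {C : P.Cham} {g : G} : g ∈ A.U C ↔ Unip C (A.act g) := Iff.rfl

omit [Finite G] in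
theorem mv_of_unip {C : P.Cham} {g : G} (h : Unip C (A.act g)) : A.mv g C = C :=
  Cham.ext' fun i hi => eq_of_le_of_finrank_eq (Submodule.map_le_iff_le_comap.2 (h.map_le i))
    (((A.mv g C).dim i hi).trans (C.dim i hi).symm)

variable [Fact p.Prime] [CharP F p]

theorem isPGroup_U (C : P.Cham) : IsPGroup p (A.U C) := fun g =>
  ⟨2 * m + 1, Subtype.ext (A.faithful (by
    rw [SubgroupClass.coe_pow, map_pow, OneMemClass.coe_one, map_one]
    exact Unip.pow_eq_one (A.iso g.1) g.2 p))⟩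

include A in
omit [Finite G] in
theorem eq_one_of_pow_char {a : F} {n : ℕ} (h : a ^ (p ^ n) = 1) : a = 1 := by
  have h1 := sub_pow_char_pow (n := n) (p := p) a 1
  rw [one_pow, h, sub_self] at h1
  exact sub_eq_zero.1 (eq_zero_of_pow_eq_zero h1)

omit [Finite G] in
theorem pow_eigen {g : G} {v : V} {a : F} (h : A.act g v = a • v) :
    ∀ n : ℕ, A.act (g ^ n) v = a ^ n • v
  | 0 => by rw [pow_zero, act_one, pow_zero, one_smul]
  | n + 1 => by rw [pow_succ, act_mul, h, map_smul, pow_eigen h n, smul_smul, ← pow_succ']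

omit [Finite G] in
/-- A `p`-element fixing two opposite chambers is trivial. -/
theorem eq_one_of_fix {C D : P.Cham} (h : Opp C D) {g : G} (hn : ∃ n : ℕ, g ^ (p ^ n) = 1)
    (hC : A.mv g C = C) (hD : A.mv g D = D) : g = 1 := by
  obtain ⟨Φ, rfl, rfl⟩ := exists_frame_of_opp h
  refine A.core_free Φ g hn fun i => ?_
  obtain ⟨n, hn⟩ := hn
  have key : ∀ (c : Bool), A.mv g (Φ.ch (Frame.w1 c)) = Φ.ch (Frame.w1 c) →
      A.mv g (Φ.ch (Frame.w1 (!c))) = Φ.ch (Frame.w1 (!c)) →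
      A.act g (Φ.vec (Frame.w1 c) i) = Φ.vec (Frame.w1 c) i := by
    intro c h1 h2
    set w := Frame.w1 (m := m) c with hw
    have hmem : A.act g (Φ.vec w i) ∈ (Φ.ch w).sub ((i : ℕ) + 1) := by
      rw [← h1]; exact ⟨_, Φ.vec_mem w i (Nat.lt_succ_self _), rfl⟩
    rw [Frame.ch_sub, mem_span_image_iff_exists_fun] at hmem
    obtain ⟨S, hS, a, hx⟩ := hmem
    have hpv : ∀ q : Fin m, Φ.pv w q = Φ.vec (Frame.w1 (!c)) q := fun q => by
      cases c <;> simp [hw, Frame.pv, Frame.vec, Frame.w1]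
    have hzero : ∀ q : S, (q : Fin m) ≠ i → a q • Φ.vec w q = 0 := by
      intro q hq
      have hlt : (q : ℕ) < i :=
        lt_of_le_of_ne (Nat.lt_succ_iff.1 (hS q.2)) fun e => hq (Fin.ext e)
      have hv : Φ.pv w q ∈ (Φ.ch (Frame.w1 (!c))).sub (i : ℕ) := hpv q ▸ Φ.vec_mem _ _ hlt
      rw [← h2] at hv
      obtain ⟨d, hd, hdv⟩ := hv
      have h0 : P.B d (Φ.vec w i) = 0 := by
        have : Φ.vec w i ∈ P.perp ((Φ.ch (Frame.w1 (!c))).sub (i : ℕ)) :=
          (Φ.mem_perp_ch _ _).2 fun r hr => by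
            rw [← hpv]; exact Φ.pv_vec w r i (Fin.ne_of_lt hr)
        exact this d hd
      have h1' : P.B (Φ.pv w q) (∑ x, a x • Φ.vec w x) = 0 := by
        rw [hx, ← hdv, (A.iso g).1, h0]
      rw [map_sum, Finset.sum_eq_single q (fun x _ hx => by
        rw [map_smul, Φ.pv_vec w q x fun e => hx (Subtype.ext e.symm), smul_zero]) (by simp),
        map_smul, smul_eq_mul] at h1'
      rw [(mul_eq_zero.1 h1').resolve_right (Φ.pv_self w q), zero_smul]
    obtain ⟨t, ht⟩ : ∃ t : F, A.act g (Φ.vec w i) = t • Φ.vec w i := by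
      by_cases hi : i ∈ S
      · exact ⟨a ⟨i, hi⟩, by
          rw [← hx, Finset.sum_eq_single ⟨i, hi⟩ (fun q _ hq => hzero q fun e => hq (Subtype.ext e))
            (by simp)]⟩
      · refine ⟨0, ?_⟩
        rw [zero_smul, ← hx]
        exact Finset.sum_eq_zero fun q _ => hzero q fun e => hi (e ▸ q.2)
    have hp := A.pow_eigen ht (p ^ n)
    rw [hn, act_one] at hp
    have hne : Φ.vec w i ≠ 0 := (Φ.linearIndependent_vec w).ne_zero i
    have : t ^ (p ^ n) = 1 := by
      refine smul_left_injective F hne ?_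
      simp only [one_smul]
      exact hp.symm
    rw [ht, A.eq_one_of_pow_char this, one_smul]
  exact ⟨key false hC hD, key true hD hC⟩

omit [Finite G] in
theorem exists_trans {C D D' : P.Cham} (h : Opp C D) (h' : Opp C D') :
    ∃ g, Unip C (A.act g) ∧ A.mv g D = D' := by
  obtain ⟨Φ, rfl, rfl⟩ := exists_frame_of_opp h
  obtain ⟨Ψ, hC, rfl, hΨ⟩ := exists_frame h' Φ.e fun i => by
    refine ⟨Φ.e_mem i (Nat.lt_succ_self _), fun hmem => ?_⟩
    have hle : Φ.chC.sub i ≤ LinearMap.ker (P.B (Φ.f i)) := by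
      refine span_le.2 ?_
      rintro _ ⟨q, hq, rfl⟩
      simp [Frame.vec, Frame.w1, Φ.fe, (Fin.ne_of_lt hq).symm]
    simpa [Φ.fe] using hle hmem
  obtain ⟨g, hg⟩ := A.big Φ.chC _ (Frame.toFrame_isIso hΨ) (Frame.toFrame_unip hΨ)
  refine ⟨g, hg ▸ Frame.toFrame_unip hΨ, Cham.ext' fun i _ => ?_⟩
  rw [mv_sub, hg, Frame.chD, Frame.chD, Frame.ch_sub, Frame.ch_sub, Submodule.map_span,
    ← Set.image_comp]
  congr 1
  refine Set.image_congr fun q _ => ?_
  simp [Frame.vec, Frame.w1, Frame.toFrame_f]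

/-- The unipotent radical acts simply transitively on the opposite chambers. -/
theorem card_U {C D : P.Cham} (h : Opp C D) :
    Nat.card (A.U C) = Nat.card {X : P.Cham // Opp C X} := by
  refine Nat.card_congr (Equiv.ofBijective
    (fun g : A.U C => (⟨A.mv g.1 D, by
      have := A.opp_mv h g.1
      rwa [A.mv_of_unip g.2] at this⟩ : {X : P.Cham // Opp C X})) ⟨?_, ?_⟩)
  · intro g g' e
    have e' : A.mv g.1 D = A.mv g'.1 D := congrArg Subtype.val e
    have h1 : g'⁻¹ * g = 1 := by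
      refine Subtype.ext (A.eq_one_of_fix h ?_ (A.mv_of_unip (g'⁻¹ * g).2) ?_)
      · obtain ⟨n, hn⟩ := A.isPGroup_U C (g'⁻¹ * g)
        exact ⟨n, congrArg Subtype.val hn⟩
      · show A.mv (g'.1⁻¹ * g.1) D = D
        rw [mv_mul, e', mv_inv_cancel]
    exact (inv_mul_eq_one.1 h1).symm
  · rintro ⟨X, hX⟩
    obtain ⟨g, hg, hgX⟩ := A.exists_trans h hX
    exact ⟨⟨g, hg⟩, Subtype.ext hgX⟩

/-! ### The module -/

/-- The permutation representation on chamber functions. -/
noncomputable def perm : Representation ℂ G (P.Cham → ℂ) where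
  toFun g := LinearMap.funLeft ℂ ℂ (A.mv g⁻¹)
  map_one' := LinearMap.ext fun f => funext fun X => by simp [mv_one]
  map_mul' g h := LinearMap.ext fun f => funext fun X => by simp [mv_mul]

omit [Finite G] [Fact p.Prime] [CharP F p] in
theorem perm_apply (g : G) (f : P.Cham → ℂ) (X : P.Cham) :
    A.perm g f X = f (A.mv g⁻¹ X) := rfl

variable [Finite V]

omit [Finite G] [Fact p.Prime] [CharP F p] in
theorem perm_mem (g : G) {f : P.Cham → ℂ} (hf : f ∈ steinSpace P) : A.perm g f ∈ steinSpace P := by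
  classical
  have := Fintype.ofFinite P.Cham
  rw [mem_steinSpace] at hf ⊢
  intro k hk1 hkm X
  rw [← hf k hk1 hkm (A.mv g⁻¹ X)]
  refine Fintype.sum_equiv ⟨A.mv g⁻¹, A.mv g, A.mv_cancel_inv g, A.mv_inv_cancel g⟩ _ _ fun D => ?_
  show _ = {D' | Adj k (A.mv g⁻¹ X) D'}.indicator f (A.mv g⁻¹ D)
  simp only [Set.indicator_apply, Set.mem_ofPred_eq, adj_mv_iff, perm_apply]

/-- The Steinberg module. -/
noncomputable def stein : Representation ℂ G (steinSpace P) where
  toFun g := (A.perm g).restrict fun _ hf => A.perm_mem g hf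
  map_one' := LinearMap.ext fun f => Subtype.ext (by simp)
  map_mul' g h := LinearMap.ext fun f => Subtype.ext (by simp)

omit [Finite G] [Fact p.Prime] [CharP F p] in
theorem stein_apply (g : G) (f : steinSpace P) (X : P.Cham) :
    (A.stein g f : P.Cham → ℂ) X = (f : P.Cham → ℂ) (A.mv g⁻¹ X) := rfl

include A in
omit [Finite G] [Fact p.Prime] [CharP F p] in
theorem ext_opp {C : P.Cham} {f f' : steinSpace P}
    (h : ∀ D, Opp C D → (f : P.Cham → ℂ) D = (f' : P.Cham → ℂ) D) : f = f' := by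
  rw [← sub_eq_zero]
  exact Subtype.ext (eq_zero_of_opp (f - f').2 C fun D hD => sub_eq_zero.2 (h D hD))

include A in
omit [Finite G] [Fact p.Prime] [CharP F p] in
open scoped _root_.Classical in
theorem exists_delta {C D : P.Cham} (h : Opp C D) :
    ∃ f : steinSpace P, ∀ X, Opp C X → (f : P.Cham → ℂ) X = if X = D then 1 else 0 := by
  obtain ⟨Φ, rfl, rfl⟩ := exists_frame_of_opp h
  refine ⟨(Frame.sgn (Frame.w1 (m := m) true))⁻¹ • ⟨Φ.ap, Φ.ap_mem⟩, fun X hX => ?_⟩
  show (Frame.sgn (Frame.w1 (m := m) true))⁻¹ * Φ.ap X = _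
  have h2 := Φ.ap_opp (c := false) hX
  by_cases hXD : X = Φ.chD
  · rw [if_pos hXD, h2.1 hXD]; exact inv_mul_cancel₀ (Frame.sgn_ne _)
  · rw [if_neg hXD, h2.2 hXD, mul_zero]

include A in
omit [Finite G] [Fact p.Prime] [CharP F p] in
theorem restr_surjective (C : P.Cham) (f0 : {X : P.Cham // Opp C X} → ℂ) :
    ∃ f : steinSpace P, ∀ X : {X : P.Cham // Opp C X}, (f : P.Cham → ℂ) X = f0 X := by
  classical
  have := Fintype.ofFinite {X : P.Cham // Opp C X}
  choose d hd using fun D : {X : P.Cham // Opp C X} => A.exists_delta D.2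
  refine ⟨∑ D, f0 D • d D, fun X => ?_⟩
  simp only [Submodule.coe_sum, Finset.sum_apply, Submodule.coe_smul, Pi.smul_apply, smul_eq_mul]
  rw [Finset.sum_eq_single X (fun D _ hD => by
    rw [hd D X X.2, if_neg (fun e => hD (Subtype.ext e.symm)), mul_zero]) (by simp),
    hd X X X.2, if_pos rfl, mul_one]

/-- Restriction to the chambers opposite `C`. -/
noncomputable def restr (C : P.Cham) : steinSpace P ≃ₗ[ℂ] ({X : P.Cham // Opp C X} → ℂ) :=
  LinearEquiv.ofBijective
    ((LinearMap.funLeft ℂ ℂ (Subtype.val : {X : P.Cham // Opp C X} → P.Cham)) ∘ₗ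
      (steinSpace P).subtype)
    ⟨fun _ _ h => A.ext_opp fun D hD => congrFun h ⟨D, hD⟩,
      fun f0 => (A.restr_surjective C f0).imp fun _ hf => funext hf⟩

theorem character_one {C D : P.Cham} (h : Opp C D) : A.stein.character 1 = Nat.card (A.U C) := by
  classical
  have := Fintype.ofFinite {X : P.Cham // Opp C X}
  have : FiniteDimensional ℂ (steinSpace P) := by
    have := Fintype.ofFinite P.Cham
    infer_instance
  rw [Representation.char_one, A.card_U h, (A.restr C).finrank_eq, Module.finrank_pi,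
    Nat.card_eq_fintype_card]

theorem character_unip {C : P.Cham} {g : G} (hg : g ∈ A.U C) (h1 : g ≠ 1) :
    A.stein.character g = 0 := by
  classical
  have := Fintype.ofFinite {X : P.Cham // Opp C X}
  let b := Module.Basis.ofEquivFun (A.restr C)
  show LinearMap.trace ℂ (steinSpace P) (A.stein g) = 0
  rw [LinearMap.trace_eq_matrix_trace ℂ b]
  refine Finset.sum_eq_zero fun X _ => ?_
  rw [Matrix.diag_apply, LinearMap.toMatrix_apply, Module.Basis.ofEquivFun_repr_apply]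
  show ((b X : steinSpace P) : P.Cham → ℂ) (A.mv g⁻¹ X.1) = 0
  have hg' : g⁻¹ ∈ A.U C := inv_mem hg
  have hX : Opp C (A.mv g⁻¹ X.1) := by
    have := A.opp_mv X.2 g⁻¹
    rwa [A.mv_of_unip hg'] at this
  have hb : A.restr C (b X) = Pi.single X 1 := by
    funext Y
    rw [show (A.restr C (b X)) Y = b.repr (b X) Y from rfl, b.repr_self]
    simp [Finsupp.single_apply, Pi.single_apply, eq_comm]
  have := congrFun hb ⟨_, hX⟩
  rw [show (A.restr C (b X)) ⟨_, hX⟩ = ((b X : steinSpace P) : P.Cham → ℂ) (A.mv g⁻¹ X.1) from rfl]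
    at this
  rw [this, Pi.single_eq_of_ne]
  intro e
  have e' : A.mv g⁻¹ X.1 = X.1 := congrArg Subtype.val e
  refine h1 (inv_eq_one.1 (A.eq_one_of_fix X.2 ?_ (A.mv_of_unip hg') e'))
  obtain ⟨n, hn⟩ := A.isPGroup_U C ⟨g⁻¹, hg'⟩
  exact ⟨n, congrArg Subtype.val hn⟩

/-! ### Chambers fixed by the unipotent radical -/

/-- An element normalising the unipotent radical of a chamber fixes the chamber. -/
theorem mv_of_normalizes {C : P.Cham} {g : G} (hg : ∀ u ∈ A.U C, g⁻¹ * u * g ∈ A.U C) :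
    A.mv g C = C := by
  classical
  set X := A.mv g C with hX
  have hfix : ∀ u ∈ A.U C, A.mv u X = X := fun u hu => by
    have := A.mv_of_unip (hg u hu)
    rw [mv_mul, mv_mul, ← hX] at this
    rw [← A.mv_cancel_inv g (A.mv u X), this]
  obtain ⟨D, hD⟩ := exists_opp C
  obtain ⟨Φ, hΦC, hΦD⟩ := exists_frame_of_opp hD
  subst hΦC hΦD
  have hne : Φ.ap X ≠ 0 := by
    intro h0
    obtain ⟨Y, hY⟩ := exists_opp X
    obtain ⟨Ψ, hΨX, -⟩ := exists_frame_of_opp hY
    have hall : ∀ f : steinSpace P, (f : P.Cham → ℂ) X = 0 := by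
      intro f
      have := Fintype.ofFinite {Z : P.Cham // Opp Φ.chC Z}
      have hd : ∀ Z : {Z : P.Cham // Opp Φ.chC Z}, ∃ u ∈ A.U Φ.chC, A.mv u Φ.chD = Z :=
        fun Z => A.exists_trans hD Z.2
      choose u hu huZ using hd
      let d : steinSpace P := (Frame.sgn (Frame.w1 (m := m) true))⁻¹ • ⟨Φ.ap, Φ.ap_mem⟩
      have hf : f = ∑ Z : {Z : P.Cham // Opp Φ.chC Z}, (f : P.Cham → ℂ) Z • A.stein (u Z) d := by
        refine A.ext_opp (C := Φ.chC) fun W hW => ?_
        simp only [Submodule.coe_sum, Finset.sum_apply, Submodule.coe_smul, Pi.smul_apply,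
          smul_eq_mul, stein_apply]
        have hW' : ∀ Z : {Z : P.Cham // Opp Φ.chC Z}, Opp Φ.chC (A.mv (u Z)⁻¹ W) := fun Z => by
          have := A.opp_mv hW (u Z)⁻¹
          rwa [A.mv_of_unip (inv_mem (hu Z))] at this
        rw [Finset.sum_eq_single ⟨W, hW⟩]
        · show _ = f.1 W * ((Frame.sgn (Frame.w1 (m := m) true))⁻¹ * Φ.ap _)
          have e : A.mv (u ⟨W, hW⟩)⁻¹ W = Φ.chD := (A.mv_eq_iff.1 (huZ ⟨W, hW⟩)).symm
          rw [(Φ.ap_opp (c := false) (hW' _)).1 e, Bool.not_false, inv_mul_cancel₀ (Frame.sgn_ne _), mul_one]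
        · intro Z _ hZ
          have e : A.mv (u Z)⁻¹ W ≠ Φ.chD := fun e => hZ (Subtype.ext (by
            rw [← huZ Z, ← e, mv_cancel_inv]))
          show f.1 Z * ((Frame.sgn (Frame.w1 (m := m) true))⁻¹ * Φ.ap _) = 0
          rw [(Φ.ap_opp (c := false) (hW' Z)).2 e, mul_zero, mul_zero]
        · simp
      rw [hf]
      simp only [Submodule.coe_sum, Finset.sum_apply, Submodule.coe_smul, Pi.smul_apply,
        smul_eq_mul, stein_apply]
      refine Finset.sum_eq_zero fun Z _ => ?_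
      rw [hfix _ (inv_mem (hu Z))]
      simp [d, h0]
    have := hall ⟨Ψ.ap, Ψ.ap_mem⟩
    rw [← hΨX] at this
    exact Frame.sgn_ne _ (Ψ.ap_chC.symm.trans this)
  obtain ⟨w, hw⟩ := Φ.exists_of_ap_ne hne
  have hFix : Φ.Fixed w := by
    intro φ hiso hφ i x hx
    obtain ⟨u, hu⟩ := A.big Φ.chC φ hiso hφ
    have := hfix u (show Unip Φ.chC (A.act u) from hu ▸ hφ)
    rw [← hw] at this
    rw [← this]
    exact ⟨x, hx, by rw [hu]⟩
  rcases A.last Φ with hmov | hno
  · rw [← hw, Φ.fixed_base hFix hmov]; rfl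
  · obtain ⟨h1, h2⟩ := Φ.fixed_eq hFix
    by_cases hb : ∀ r, w.2 r = false
    · rw [← hw, show w = Frame.w1 false from Prod.ext h1 (funext hb)]; rfl
    · exfalso
      refine hno g ?_
      have hwf : w = Frame.wflip m := by
        refine Prod.ext h1 (funext fun r => ?_)
        push Not at hb
        obtain ⟨r0, hr0⟩ := hb
        have hl : (r0 : ℕ) + 1 = m := by
          by_contra hne'
          exact hr0 (h2 r0 (by have := r0.2; omega))
        by_cases hr : (r : ℕ) + 1 = m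
        · rw [show r = r0 from Fin.ext (by omega)]
          simpa [Frame.wflip, hl] using hr0
        · simp [Frame.wflip, hr, h2 r (by have := r.2; omega)]
      rw [← hwf]
      exact congrArg (fun Y : P.Cham => Y.sub m) hw.symm

theorem center_fix {z : G} (hz : z ∈ Subgroup.center G) (C : P.Cham) : A.mv z C = C :=
  A.mv_of_normalizes fun u hu => by
    rw [show z⁻¹ * u * z = u by rw [mul_assoc, Subgroup.mem_center_iff.1 hz u, inv_mul_cancel_left]]
    exact hu

theorem exists_sylow (C : P.Cham) : ∃ S : Sylow p G, (S : Subgroup G) = A.U C := by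
  obtain ⟨S, hS⟩ := (A.isPGroup_U C).exists_le_sylow
  refine ⟨S, le_antisymm ?_ hS⟩
  by_contra hne
  have hlt : (A.U C).subgroupOf S < ⊤ := lt_of_le_of_ne le_top fun e =>
    hne (Subgroup.subgroupOf_eq_top.1 e)
  have := IsPGroup.isNilpotent S.2
  have hn := normalizerCondition_of_isNilpotent (G := S) _ hlt
  obtain ⟨g, hg, hgU⟩ := SetLike.exists_of_lt hn
  have hgn : ∀ u ∈ A.U C, g.1⁻¹ * u * g.1 ∈ A.U C := fun u hu => by
    have h2 := (Subgroup.mem_normalizer_iff.1 (inv_mem hg) ⟨u, hS hu⟩).1 hu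
    simpa [Subgroup.mem_subgroupOf] using h2
  have hC := A.mv_of_normalizes hgn
  obtain ⟨D, hD⟩ := exists_opp C
  have hgD : Opp C (A.mv g.1 D) := by
    have := A.opp_mv hD g.1
    rwa [hC] at this
  obtain ⟨u, hu, huD⟩ := A.exists_trans hD hgD
  have hu' : u ∈ A.U C := hu
  have h1 : u⁻¹ * g.1 = 1 := by
    refine A.eq_one_of_fix hD ?_ ?_ ?_
    · obtain ⟨n, hn'⟩ := S.2 ⟨_, mul_mem (inv_mem (hS hu')) g.2⟩
      exact ⟨n, congrArg Subtype.val hn'⟩
    · rw [mv_mul, hC, A.mv_of_unip (inv_mem hu' : u⁻¹ ∈ A.U C)]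
    · rw [mv_mul, ← huD, mv_inv_cancel]
  exact hgU (Subgroup.mem_subgroupOf.2 (inv_mul_eq_one.1 h1 ▸ hu'))

/-! ### Irreducibility -/

omit [Fact p.Prime] [CharP F p] in
theorem fixed_mem {C : P.Cham} {W : Submodule ℂ (steinSpace P)}
    (hW : ∀ g : G, ∀ f ∈ W, A.stein g f ∈ W) {f : steinSpace P} (hf : f ∈ W)
    (hC : (f : P.Cham → ℂ) C ≠ 0) :
    ∃ l ∈ W, l ≠ 0 ∧ ∀ u ∈ A.U C, A.stein u l = l := by
  classical
  have := Fintype.ofFinite (A.U C)
  refine ⟨∑ u : A.U C, A.stein u.1 f, sum_mem fun u _ => hW _ _ hf, fun h0 => ?_, fun u hu => ?_⟩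
  · have := congrArg (fun l : steinSpace P => (l : P.Cham → ℂ) C) h0
    simp only [Submodule.coe_sum, Finset.sum_apply, stein_apply, ZeroMemClass.coe_zero,
      Pi.zero_apply] at this
    rw [Finset.sum_congr rfl (g := fun _ => (f : P.Cham → ℂ) C) fun u _ => by
      rw [A.mv_of_unip (inv_mem u.2 : (u.1)⁻¹ ∈ A.U C)], Finset.sum_const, nsmul_eq_mul] at this
    rcases mul_eq_zero.1 this with h | h
    · exact absurd (Nat.cast_eq_zero.1 h) (Finset.card_ne_zero.2 ⟨1, Finset.mem_univ _⟩)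
    · exact hC h
  · rw [map_sum]
    refine Fintype.sum_equiv (Equiv.mulLeft (⟨u, hu⟩ : A.U C)) _ _ fun v => ?_
    show A.stein u (A.stein v.1 f) = A.stein (u * v.1) f
    rw [map_mul]; rfl

theorem fixed_unique {C : P.Cham} {l l' : steinSpace P}
    (hl : ∀ u ∈ A.U C, A.stein u l = l) (hl' : ∀ u ∈ A.U C, A.stein u l' = l') (h0 : l ≠ 0) :
    (∀ D, Opp C D → (l : P.Cham → ℂ) D ≠ 0) ∧ ∃ t : ℂ, l' = t • l := by
  obtain ⟨D, hD⟩ := exists_opp C
  have hconst : ∀ f : steinSpace P, (∀ u ∈ A.U C, A.stein u f = f) →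
      ∀ X, Opp C X → (f : P.Cham → ℂ) X = (f : P.Cham → ℂ) D := fun f hf X hX => by
    obtain ⟨u, hu, huX⟩ := A.exists_trans hD hX
    conv_lhs => rw [← hf u hu]
    rw [stein_apply, ← huX, mv_inv_cancel]
  have hD0 : (l : P.Cham → ℂ) D ≠ 0 := fun h => h0 <| A.ext_opp (C := C) fun X hX => by
    rw [hconst l hl X hX, h]; rfl
  refine ⟨fun X hX => (hconst l hl X hX).symm ▸ hD0,
    (l' : P.Cham → ℂ) D / (l : P.Cham → ℂ) D, A.ext_opp (C := C) fun X hX => ?_⟩
  show _ = (l' : P.Cham → ℂ) D / (l : P.Cham → ℂ) D * (l : P.Cham → ℂ) X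
  rw [hconst l hl X hX, hconst l' hl' X hX, div_mul_cancel₀ _ hD0]

theorem irreducible : A.stein.IsIrreducible := by
  classical
  have := Fintype.ofFinite P.Cham
  rw [Cfsg.Agent.Characters.isIrreducible_iff]
  refine ⟨?_, fun W hW => ?_⟩
  · obtain ⟨C⟩ := exists_cham P
    obtain ⟨D, hD⟩ := exists_opp C
    obtain ⟨f, hf⟩ := A.exists_delta hD
    exact ⟨f, 0, fun e => by simpa [e] using hf D hD⟩
  by_cases hbot : W = ⊥
  · exact Or.inl hbot
  right
  let Ws : Subrepresentation A.stein := ⟨W, fun g _ hf => hW g _ hf⟩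
  obtain ⟨W', hW'⟩ := exists_isCompl Ws
  obtain ⟨f, hfW, hf0⟩ := exists_mem_ne_zero_of_ne_bot hbot
  obtain ⟨C, hC⟩ : ∃ C, (f : P.Cham → ℂ) C ≠ 0 := by
    by_contra hno
    push Not at hno
    exact hf0 (Subtype.ext (funext hno))
  have hdisj : ∀ x, x ∈ W → x ∈ W'.toSubmodule → x = 0 := fun x hx hx' => by
    have e := congrArg Subrepresentation.toSubmodule hW'.inf_eq_bot
    change W ⊓ W'.toSubmodule = ⊥ at e
    exact (Submodule.mem_bot ℂ).1 (e ▸ Submodule.mem_inf.2 ⟨hx, hx'⟩)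
  have hzero : W'.toSubmodule = ⊥ := by
    rw [eq_bot_iff]
    intro f' hf'
    refine (Submodule.mem_bot ℂ).2 ?_
    obtain ⟨l, hlW, hl0, hl⟩ := A.fixed_mem hW hfW hC
    refine A.ext_opp (C := C) fun X hX => ?_
    by_contra hne
    have hlX : (l : P.Cham → ℂ) X ≠ 0 := (A.fixed_unique hl hl hl0).1 X hX
    obtain ⟨l1, hl1W, hl10, hl1⟩ := A.fixed_mem hW hlW hlX
    obtain ⟨l2, hl2W, hl20, hl2⟩ := A.fixed_mem (fun g x hx => W'.apply_mem_toSubmodule g hx) hf' hne
    obtain ⟨t, rfl⟩ := (A.fixed_unique hl1 hl2 hl10).2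
    exact hl20 (hdisj _ (W.smul_mem t hl1W) hl2W)
  have e := congrArg Subrepresentation.toSubmodule hW'.sup_eq_top
  change W ⊔ W'.toSubmodule = ⊤ at e
  rwa [hzero, sup_bot_eq] at e

include A in
/-- The Steinberg character of the group modulo its centre. -/
theorem exists_character :
    ∃ χ : G ⧸ Subgroup.center G → ℂ, Cfsg.IsIrrCharacter (G ⧸ Subgroup.center G) χ ∧
      ∀ S : Sylow p (G ⧸ Subgroup.center G), χ 1 = Nat.card S ∧
        ∀ x : G ⧸ Subgroup.center G, x ∈ S → x ≠ 1 → χ x = 0 := by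
  classical
  have := Fintype.ofFinite P.Cham
  have := A.irreducible
  have hirr := Cfsg.Agent.Characters.isIrrCharacter_character A.stein
  obtain ⟨C⟩ := exists_cham P
  obtain ⟨D, hD⟩ := exists_opp C
  have hker : ∀ z ∈ Subgroup.center G, A.stein z = 1 := fun z hz =>
    LinearMap.ext fun f => Subtype.ext (funext fun X => by
      rw [stein_apply, A.center_fix (inv_mem hz)]; rfl)
  obtain ⟨ψ, -, hψ, hψirr⟩ := Cfsg.Agent.Characters.exists_deflate_quotient (Subgroup.center G)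
    (Cfsg.Agent.Characters.isCharacter_of_isIrr hirr) fun z hz => by
      show LinearMap.trace _ _ (A.stein z) = LinearMap.trace _ _ (A.stein 1)
      rw [hker z hz, hker 1 (one_mem _)]
  refine ⟨ψ, hψirr hirr, fun S => ?_⟩
  obtain ⟨U₀, hU₀⟩ := A.exists_sylow C
  let U₁ : Sylow p (G ⧸ Subgroup.center G) :=
    U₀.mapSurjective (QuotientGroup.mk'_surjective (Subgroup.center G))
  have hcard : Nat.card U₁ = Nat.card (A.U C) := by
    show Nat.card (U₀.1.map (QuotientGroup.mk' (Subgroup.center G))) = _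
    rw [hU₀]
    refine (Nat.card_congr (Equiv.ofBijective
      ((QuotientGroup.mk' (Subgroup.center G)).subgroupMap (A.U C))
      ⟨?_, MonoidHom.subgroupMap_surjective _ _⟩)).symm
    intro u v huv
    have e : (u.1 : G ⧸ Subgroup.center G) = v.1 := congrArg Subtype.val huv
    rw [QuotientGroup.eq] at e
    refine inv_mul_eq_one.1 (Subtype.ext (A.eq_one_of_fix hD ?_ (A.mv_of_unip (u⁻¹ * v).2)
      (A.center_fix e D)))
    obtain ⟨n, hn⟩ := A.isPGroup_U C (u⁻¹ * v)
    exact ⟨n, congrArg Subtype.val hn⟩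
  obtain ⟨g, rfl⟩ := MulAction.exists_smul_eq (G ⧸ Subgroup.center G) U₁ S
  refine ⟨?_, fun x hx hx1 => ?_⟩
  · have h1 := hψ 1
    rw [QuotientGroup.mk_one] at h1
    rw [h1, A.character_one hD, ← hcard, Nat.cast_inj]
    exact U₁.card_eq_multiplicity.trans (g • U₁).card_eq_multiplicity.symm
  · have hx' : x ∈ ((g • U₁ : Sylow p (G ⧸ Subgroup.center G)) : Subgroup (G ⧸ Subgroup.center G)) := hx
    rw [Sylow.coe_subgroup_smul] at hx'
    obtain ⟨y, hy, rfl⟩ := hx'
    obtain ⟨s, hs, rfl⟩ := hy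
    obtain ⟨g', rfl⟩ := QuotientGroup.mk_surjective g
    have e : (MulDistribMulAction.toMonoidEnd (MulAut (G ⧸ Subgroup.center G)) (G ⧸ Subgroup.center G)
        (MulAut.conj (g' : G ⧸ Subgroup.center G))) (QuotientGroup.mk' _ s) =
        ((g' * s * g'⁻¹ : G) : G ⧸ Subgroup.center G) := rfl
    refine ((congrArg ψ e).trans (hψ _)).trans ?_
    rw [A.stein.char_conj]
    refine A.character_unip (C := C) (hU₀ ▸ hs) fun h1 => hx1 (e.trans ?_)
    rw [h1, mul_one, mul_inv_cancel]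
    rfl

end Act

end Cfsg.Agent.Steinberg.Polar
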