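import Cfsg.Agent.Lib.Steinberg.Dim
import Cfsg.Agent.Lib.Classical.OmegaScale
import Cfsg.Agent.Lib.Classical.OrthEichler

/-!
# Orthogonal polar spaces and `Ω`
-/

set_option autoImplicit false

open Module Submodule

namespace Cfsg.Agent.Steinberg.Polar

theorem Unip.comp {F : Type*} [Field F] {V : Type*} [AddCommGroup V] [Module F V] {m : ℕ}
    [FiniteDimensional F V] {P : Polar F V m} {C : P.Cham} {g h : V →ₗ[F] V}
    (hg : Unip C g) (hh : Unip C h) : Unip C (g ∘ₗ h) := by
  refine ⟨fun i hi x hx => ?_, fun x hx => ?_⟩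
  · rw [LinearMap.comp_apply, show g (h x) - x = g (h x - x) + (g x - x) by rw [map_sub]; abel]
    exact add_mem (hg.map_le i _ (hh.1 i hi x hx)) (hg.1 i hi x hx)
  · rw [LinearMap.comp_apply, show g (h x) - x = g (h x - x) + (g x - x) by rw [map_sub]; abel]
    exact add_mem (hg.map_le m _ (hh.2 x hx)) (hg.2 x hx)

end Cfsg.Agent.Steinberg.Polar

namespace Cfsg.Agent.Steinberg.Quad

open Cfsg.Agent.Forms Cfsg.Agent.Forms.QuadStd Cfsg.Agent.Forms.Reflections
open Cfsg.Agent.Classical Cfsg.Agent.Classical.OmegaCrit Cfsg.Agent.Classical.OmegaScale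

variable {F : Type*} [Field F] [Fintype F] {ι : Type} [Fintype ι] [DecidableEq ι]
variable {Q : QuadraticForm F (ι → F)} {m : ℕ}

/-- An orthogonal polar space. -/
noncomputable def quadPolar (hQ : (QuadraticMap.polarBilin Q).Nondegenerate)
    (htop : ∃ X : Submodule F (ι → F), finrank F X = m ∧ ∀ x ∈ X, Q x = 0)
    (hle : ∀ W : Submodule F (ι → F), (∀ x ∈ W, Q x = 0) → finrank F W ≤ m) :
    Polar F (ι → F) m where
  sig := RingHom.id F
  sig_surj := Function.surjective_id
  B := polB Q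
  sw t := t
  sw_zero := rfl
  swap u v := QuadraticMap.polar_comm _ v u
  nondeg := hQ.1
  Q := ⇑Q
  tau t := t
  tau_zero := rfl
  Q_zero := QuadraticMap.map_zero Q
  Q_add u v := QuadraticMap.map_add Q u v
  sing_smul a v h := by simp [QuadraticMap.map_smul, h]
  sing_iso v h := by rw [polB_apply, QuadraticMap.polar_self, h, smul_zero]
  partner x y hx hxy := by
    refine ⟨-Q y / QuadraticMap.polar Q x y, ?_⟩
    rw [QuadraticMap.map_add Q, QuadraticMap.map_smul, hx, QuadraticMap.polar_smul_right,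
      QuadraticMap.polar_comm _ y x, smul_eq_mul, smul_eq_mul,
      div_mul_cancel₀ _ (show QuadraticMap.polar Q x y ≠ 0 from hxy)]
    ring
  exists_top := by
    obtain ⟨X, h1, h2⟩ := htop
    refine ⟨X, h1, h2, fun x hx y hy => ?_⟩
    simp [polB_apply, QuadraticMap.polar, h2 _ hx, h2 _ hy, h2 _ (X.add_mem hx hy)]
  le_index W hW _ := hle W hW

variable {hQ : (QuadraticMap.polarBilin Q).Nondegenerate}
variable {htop : ∃ X : Submodule F (ι → F), finrank F X = m ∧ ∀ x ∈ X, Q x = 0}
variable {hle : ∀ W : Submodule F (ι → F), (∀ x ∈ W, Q x = 0) → finrank F W ≤ m}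

local notation "PQ" => quadPolar hQ htop hle

theorem act_iso (g : Cfsg.isometryGroup F ⇑Q) : Polar.IsIso PQ (act g) :=
  ⟨fun u v => act_polar g u v, fun v => act_map g v⟩

theorem exists_isometry {φ : (ι → F) →ₗ[F] (ι → F)} (hφ : Polar.IsIso PQ φ) :
    ∃ g : Cfsg.isometryGroup F ⇑Q, act g = φ := by
  let e := LinearEquiv.ofBijective φ
    ⟨hφ.injective, LinearMap.injective_iff_surjective.1 hφ.injective⟩
  refine ⟨isoOfEquiv ⇑Q e fun v => hφ.2 v, LinearMap.ext fun v => ?_⟩
  rw [act_apply]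
  exact isoOfEquiv_mulVec _ _ _ v

theorem act_pow (g : Cfsg.isometryGroup F ⇑Q) : ∀ n : ℕ, act (g ^ n) = act g ^ n
  | 0 => by rw [pow_zero, pow_zero]; exact LinearMap.ext act_one
  | n + 1 => by
    rw [pow_succ, pow_succ, ← act_pow g n]
    exact LinearMap.ext fun x => act_mul _ _ x

/-- Unipotent isometries are products of Eichler transformations. -/
theorem mem_of_unip (Φ : Polar.Frame PQ) (N : Subgroup (Cfsg.isometryGroup F ⇑Q))
    (hN : ∀ (u w : ι → F) (hu : Q u = 0) (huw : QuadraticMap.polar Q u w = 0),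
      Orth.eich u w hu huw ∈ N) :
    ∀ g : Cfsg.isometryGroup F ⇑Q, Polar.Unip Φ.chC (act g) → g ∈ N := by
  suffices ∀ k j, j + k = m → ∀ g : Cfsg.isometryGroup F ⇑Q, Polar.Unip Φ.chC (act g) →
      (∀ i : Fin m, (i : ℕ) < j → act g (Φ.e i) = Φ.e i ∧ act g (Φ.f i) = Φ.f i) → g ∈ N from
    fun g hg => this m 0 (by omega) g hg fun i hi => absurd hi (Nat.not_lt_zero _)
  intro k
  induction k with
  | zero =>
    intro j hj g hg hfix
    have hfix' : ∀ i, act g (Φ.e i) = Φ.e i ∧ act g (Φ.f i) = Φ.f i :=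
      fun i => hfix i (by omega)
    have h1 : act g = 1 := by
      refine Φ.eq_one_of_core hfix' fun y hy => ?_
      have hmem := hg.2 y (Φ.mem_perp_chC.2 fun i _ => (hy i).1)
      rw [Φ.chC_top, mem_span_range_iff_exists_fun] at hmem
      obtain ⟨a, ha⟩ := hmem
      have hzero : ∀ i, a i = 0 := fun i => by
        have h := (Φ.B_comb a 0 i).2
        simp only [Pi.zero_apply, zero_smul, Finset.sum_const_zero, add_zero] at h
        rw [← h, ha, map_sub, (hy i).2, sub_zero]
        exact (Φ.inCore_map (act_iso g) hfix' hy i).2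
      rw [← sub_eq_zero, ← ha]
      simp [hzero]
    rw [show g = 1 from Orth.act_ext fun x => by rw [h1, act_one]; rfl]
    exact one_mem N
  | succ k ih =>
    intro j hj g hg hfix
    let p : Fin m := ⟨j, by omega⟩
    have he : act g (Φ.e p) = Φ.e p := by
      have hmem := hg.1 j (by omega) _ (Φ.e_mem p (Nat.lt_succ_self j))
      rw [Φ.chC_eq, mem_span_image_iff_exists_fun] at hmem
      obtain ⟨S, hS, a, ha⟩ := hmem
      rw [← sub_eq_zero, ← ha]
      refine Finset.sum_eq_zero fun q _ => ?_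
      have h0 : (PQ).B (Φ.f q) (act g (Φ.e p) - Φ.e p) = 0 := by
        have h' := (act_iso (hQ := hQ) (htop := htop) (hle := hle) g).1 (Φ.f q) (Φ.e p)
        rw [(hfix q (hS q.2)).2] at h'
        rw [map_sub, h', sub_self]
      rw [← ha, map_sum, Finset.sum_eq_single q (fun r _ hr => by
        rw [map_smul, Φ.fe, if_neg (fun e => hr (Subtype.ext e.symm)), smul_zero]) (by simp),
        map_smul, Φ.fe, if_pos rfl, smul_eq_mul, mul_one] at h0
      rw [h0, zero_smul]
    set z := act g (Φ.f p) - Φ.f p with hz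
    have hfz : act g (Φ.f p) = Φ.f p + z := by rw [hz, add_sub_cancel]
    have hez : ∀ i : Fin m, (i : ℕ) ≤ j → QuadraticMap.polar Q (Φ.e i) z = 0 := by
      intro i hi
      have hei : act g (Φ.e i) = Φ.e i := by
        rcases Nat.lt_or_eq_of_le hi with h | h
        · exact (hfix i h).1
        · rw [show i = p from Fin.ext h]; exact he
      have h := act_polar g (Φ.e i) (Φ.f p)
      rw [hei, hfz, QuadraticMap.polar_add_right] at h
      linear_combination h
    have hfz' : ∀ i : Fin m, (i : ℕ) < j → QuadraticMap.polar Q (Φ.f i) z = 0 := by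
      intro i hi
      have h := act_polar g (Φ.f i) (Φ.f p)
      rw [(hfix i hi).2, hfz, QuadraticMap.polar_add_right] at h
      linear_combination h
    have hp : Q (Φ.e p) = 0 := Φ.sing_e p
    have hfp : Q (Φ.f p) = 0 := Φ.sing_f p
    have hef : QuadraticMap.polar Q (Φ.f p) (Φ.e p) = 1 := by
      have := Φ.fe p p; rwa [if_pos rfl] at this
    have hpz : QuadraticMap.polar Q (Φ.e p) z = 0 := hez p le_rfl
    set E := Orth.eich (Φ.e p) z hp hpz with hE
    have hEf : act E (Φ.f p) = act g (Φ.f p) := by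
      have hq : Q (Φ.f p + z) = 0 := by rw [← hfz, act_map]; exact hfp
      rw [QuadraticMap.map_add Q, hfp, zero_add] at hq
      rw [hE, Orth.act_eich, hef, hfz, one_smul, mul_one, sub_sub, ← add_smul,
        add_comm (QuadraticMap.polar Q _ z) (Q z), hq, zero_smul, sub_zero]
    have hEfix : ∀ i : Fin m, (i : ℕ) < j → act E (Φ.e i) = Φ.e i ∧ act E (Φ.f i) = Φ.f i := by
      intro i hi
      have hne : i ≠ p := fun e => by rw [e] at hi; exact lt_irrefl _ hi
      refine ⟨Orth.act_eich_fix hp hpz (Φ.ee i p) (hez i hi.le),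
        Orth.act_eich_fix hp hpz ?_ (hfz' i hi)⟩
      have := Φ.fe i p
      rwa [if_neg hne] at this
    have hEp : act E (Φ.e p) = Φ.e p := Orth.act_eich_self hp hpz
    have hunip : ∀ w : ι → F, (hw : QuadraticMap.polar Q (Φ.e p) w = 0) →
        (∀ i : Fin m, (i : ℕ) ≤ j → QuadraticMap.polar Q (Φ.e i) w = 0) →
        Polar.Unip Φ.chC (act (Orth.eich (Φ.e p) w hp hw)) := by
      intro w hw hew
      have key : ∀ x, QuadraticMap.polar Q (Φ.e p) x = 0 →
          act (Orth.eich (Φ.e p) w hp hw) x - x = -(QuadraticMap.polar Q x w) • Φ.e p := fun x hx => by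
        rw [Orth.act_eich, QuadraticMap.polar_comm _ x (Φ.e p), hx]
        simp
      refine ⟨fun i hi x hx => ?_, fun x hx => ?_⟩
      · have hx' : QuadraticMap.polar Q (Φ.e p) x = 0 :=
          (Φ.chC.ts).2 _ (Φ.e_mem p p.2) x (Φ.chC.le_top _ hx)
        rw [key x hx']
        by_cases hji : j < i
        · exact smul_mem _ _ (Φ.e_mem p hji)
        · have hxw : QuadraticMap.polar Q x w = 0 := by
            have hwp : w ∈ (PQ).perp (Φ.chC.sub (i + 1)) :=
              Φ.mem_perp_chC.2 fun q hq => hew q (by omega)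
            exact hwp x hx
          rw [hxw, neg_zero, zero_smul]
          exact zero_mem _
      · rw [key x (hx _ (Φ.e_mem p p.2))]
        exact smul_mem _ _ (Φ.e_mem p p.2)
    have hinv : E⁻¹ = Orth.eich (Φ.e p) (-z) hp
        (by rw [QuadraticMap.polar_neg_right, hpz, neg_zero]) := Orth.eich_inv hp hpz
    have hg' : Polar.Unip Φ.chC (act (E⁻¹ * g)) := by
      rw [show act (E⁻¹ * g) = act E⁻¹ ∘ₗ act g from LinearMap.ext fun x => act_mul _ _ x, hinv]
      exact (hunip _ _ fun i hi => by rw [QuadraticMap.polar_neg_right, hez i hi, neg_zero]).comp hg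
    have hcancel : ∀ x y, act E x = y → act E⁻¹ y = x := fun x y h => by
      rw [← h, ← act_mul, inv_mul_cancel, act_one]
    have hmem : E⁻¹ * g ∈ N := by
      refine ih (j + 1) (by omega) _ hg' fun i hi => ?_
      rw [act_mul, act_mul]
      rcases Nat.lt_succ_iff_lt_or_eq.1 hi with h | h
      · rw [(hfix i h).1, (hfix i h).2]
        exact ⟨hcancel _ _ (hEfix i h).1, hcancel _ _ (hEfix i h).2⟩
      · obtain rfl : i = p := Fin.ext h
        rw [he]
        exact ⟨hcancel _ _ hEp, hcancel _ _ hEf⟩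
    have := mul_mem (hN (Φ.e p) z hp hpz) hmem
    rwa [← hE, mul_inv_cancel_left] at this

variable (hQ) (h : Fintype.card F ≠ 2 ∨ Fintype.card ι ≠ 4)

include hQ h in
theorem par_eich {u w : ι → F} (hu : Q u = 0) (huw : QuadraticMap.polar Q u w = 0) :
    par (Orth.eich u w hu huw) = 1 := by
  by_cases hw : Q w = 0
  · have hs : ∀ x ∈ imSp (Orth.eich u w hu huw), Q x = 0 := by
      rintro _ ⟨x, rfl⟩
      rw [LinearMap.sub_apply, LinearMap.id_apply, Orth.act_eich,
        show x + QuadraticMap.polar Q x u • w - QuadraticMap.polar Q x w • u -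
          (Q w * QuadraticMap.polar Q x u) • u - x =
          QuadraticMap.polar Q x u • w + (-(QuadraticMap.polar Q x w)) • u by
        rw [hw]; module]
      rw [QuadraticMap.map_add Q, QuadraticMap.map_smul, QuadraticMap.map_smul, hw, hu,
        QuadraticMap.polar_smul_left, QuadraticMap.polar_smul_right, QuadraticMap.polar_comm _ w u,
        huw]
      simp
    obtain ⟨k, hk⟩ := even_of_singular hQ hs
    have := finrank_imSp hQ (Orth.eich u w hu huw)
    rw [par]
    refine Even.neg_one_pow ⟨finrank F ↥(fixSp (Orth.eich u w hu huw)) + k, ?_⟩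
    omega
  · set v := w + Q w • u with hv
    have hQv : Q v = Q w := by
      rw [hv, QuadraticMap.map_add Q, QuadraticMap.map_smul, hu, QuadraticMap.polar_smul_right,
        QuadraticMap.polar_comm _ w u, huw]
      simp
    have heq : Orth.eich u w hu huw = reflect Q w * reflect Q v := Orth.act_ext fun x => by
      rw [Orth.act_eich, act_mul, act_reflect, act_reflect, hQv, hv]
      simp only [QuadraticMap.polar_add_left, QuadraticMap.polar_smul_left,
        QuadraticMap.polar_sub_right, QuadraticMap.polar_smul_right, QuadraticMap.polar_add_right,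
        QuadraticMap.polar_self, QuadraticMap.polar_comm _ x w, QuadraticMap.polar_comm _ x u,
        QuadraticMap.polar_comm _ w u, huw, smul_eq_mul, nsmul_eq_mul]
      match_scalars <;> field_simp <;> norm_num <;> ring
    rw [heq, par_mul_all hQ h, par_reflect hQ hw, par_reflect hQ (hQv ▸ hw)]
    rfl

variable (p : ℕ) [Fact p.Prime] [CharP F p]

include h p in
theorem mem_omega_of_unip {C : (quadPolar hQ htop hle).Cham} (g : Cfsg.isometryGroup F ⇑Q)
    (hg : Polar.Unip C (act g)) : g ∈ Cfsg.Omega F ⇑Q := by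
  rcases (Fact.out : p.Prime).eq_two_or_odd' with hp | hp
  · have h2 : (2 : F) = 0 := by
      subst hp
      exact CharTwo.two_eq_zero
    obtain ⟨D, hD⟩ := Polar.exists_opp C
    obtain ⟨Φ, rfl, -⟩ := Polar.exists_frame_of_opp hD
    refine mem_of_unip Φ _ (fun u w hu huw => ?_) g hg
    rw [mem_omega_iff_par hQ h h2]
    exact par_eich hQ h hu huw
  · rw [mem_omega_iff hQ h]
    have h1 : g ^ (p ^ (2 * m + 1)) = 1 := Orth.act_ext fun x => by
      rw [act_pow, Polar.Unip.pow_eq_one (act_iso g) hg p, act_one]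
      rfl
    have h2 : (theta hQ h g) ^ (p ^ (2 * m + 1)) = 1 := by rw [← map_pow, h1, map_one]
    have h3 : ∀ x : ℤˣ × ℤˣ, x ^ 2 = 1 := fun x => by
      rw [sq]; exact Prod.ext (Int.units_mul_self _) (Int.units_mul_self _)
    obtain ⟨k, hk⟩ := hp.pow (n := 2 * m + 1)
    rwa [hk, pow_succ, pow_mul, h3, one_pow, one_mul] at h2

include h in
/-- `Ω` as a group of isometries of the orthogonal polar space. -/
noncomputable def omegaAct
    (hcore : ∀ (Φ : Polar.Frame (quadPolar hQ htop hle)) (g : Cfsg.isometryGroup F ⇑Q),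
      g ∈ Cfsg.Omega F ⇑Q → (∃ n : ℕ, g ^ (p ^ n) = 1) →
      (∀ i, act g (Φ.e i) = Φ.e i ∧ act g (Φ.f i) = Φ.f i) → g = 1)
    (hlast : ∀ Φ : Polar.Frame (quadPolar hQ htop hle),
      (∀ r : Fin m, (r : ℕ) + 1 = m → ∃ z, z ≠ 0 ∧ Q (Φ.f r + z) = 0 ∧
        (∀ q, QuadraticMap.polar Q (Φ.e q) z = 0) ∧
        ∀ q, q ≠ r → QuadraticMap.polar Q (Φ.f q) z = 0) ∨
      ∀ g : Cfsg.isometryGroup F ⇑Q, g ∈ Cfsg.Omega F ⇑Q →
        (Φ.chC.sub m).map (act g) ≠ (Φ.ch (Polar.Frame.wflip m)).sub m) :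
    Polar.Act p (quadPolar hQ htop hle) (Cfsg.Omega F ⇑Q) where
  act :=
    { toFun := fun g => act g.1
      map_one' := LinearMap.ext act_one
      map_mul' := fun a b => LinearMap.ext fun x => act_mul a.1 b.1 x }
  iso g := act_iso g.1
  faithful a b hab := Subtype.ext (Orth.act_ext fun x => LinearMap.congr_fun hab x)
  big C φ hφ hU := by
    obtain ⟨g, rfl⟩ := exists_isometry hφ
    exact ⟨⟨g, mem_omega_of_unip hQ h p g hU⟩, rfl⟩
  core_free Φ g hg hfix := by
    obtain ⟨n, hn⟩ := hg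
    exact Subtype.ext (hcore Φ g.1 g.2 ⟨n, congrArg Subtype.val hn⟩ hfix)
  last Φ := (hlast Φ).imp id fun hno g => hno g.1 g.2

omit [Fact p.Prime] [CharP F p] in
theorem eq_one_small [Fact p.Prime] [CharP F p] (hsmall : Fintype.card ι ≤ 2 * m + 1)
    (Φ : Polar.Frame (quadPolar hQ htop hle)) {g : Cfsg.isometryGroup F ⇑Q}
    (hg : ∃ n : ℕ, g ^ (p ^ n) = 1)
    (hfix : ∀ i, act g (Φ.e i) = Φ.e i ∧ act g (Φ.f i) = Φ.f i) : g = 1 := by
  obtain ⟨n, hn⟩ := hg
  have h1 : act g = 1 := Φ.eq_one_of_small p (by rw [Module.finrank_pi]; exact hsmall) (act_iso g)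
    (n := n) (by rw [← act_pow, hn]; exact LinearMap.ext act_one) hfix
  exact Orth.act_ext fun x => by rw [h1, act_one]; rfl

end Cfsg.Agent.Steinberg.Quad

namespace Cfsg.Agent.Steinberg.Quad

open Cfsg.Agent.Forms Cfsg.Agent.Forms.Reflections

variable {F : Type*} [Field F] [Fintype F] {ι : Type} [Fintype ι] [DecidableEq ι]
variable {Q : QuadraticForm F (ι → F)}

theorem polar_eq_zero {W : Submodule F (ι → F)} (hW : ∀ x ∈ W, Q x = 0) {x y : ι → F} (hx : x ∈ W)
    (hy : y ∈ W) : QuadraticMap.polar Q x y = 0 := by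
  simp [QuadraticMap.polar, hW _ hx, hW _ hy, hW _ (W.add_mem hx hy)]

theorem two_mul_le (hQ : (QuadraticMap.polarBilin Q).Nondegenerate) {W : Submodule F (ι → F)}
    (hW : ∀ x ∈ W, Q x = 0) : 2 * finrank F W ≤ Fintype.card ι := by
  have := Dim.two_mul_finrank_le (polB Q) hQ.1 W fun x hx y hy => polar_eq_zero hW hx hy
  rwa [Module.finrank_pi] at this

omit [Fintype F] in
/-- A coordinate subspace on which `Q` vanishes. -/
theorem exists_coord_top {k : ℕ} (c : Fin k → ι) (hc : Function.Injective c)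
    (h0 : ∀ v : ι → F, (∀ i, i ∉ Set.range c → v i = 0) → Q v = 0) :
    ∃ X : Submodule F (ι → F), finrank F X = k ∧ ∀ x ∈ X, Q x = 0 := by
  have hli : LinearIndependent F fun i : Fin k => (Pi.single (c i) 1 : ι → F) :=
    (Pi.linearIndependent_single_one ι F).comp _ hc
  refine ⟨_, (finrank_span_eq_card hli).trans (Fintype.card_fin k), fun x hx => h0 x fun i hi => ?_⟩
  rw [mem_span_range_iff_exists_fun] at hx
  obtain ⟨a, rfl⟩ := hx
  simp only [Finset.sum_apply, Pi.smul_apply, smul_eq_mul]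
  exact Finset.sum_eq_zero fun j _ => by
    rw [Pi.single_eq_of_ne (fun e => hi ⟨j, e.symm⟩), mul_zero]

end Cfsg.Agent.Steinberg.Quad
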