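import Cfsg.Agent.S2566
import Cfsg.Agent.S2549
import Cfsg.Agent.Lib.CharTheory.Ito
import Cfsg.Agent.BlockCharsA.DefectZeroVanish
import Cfsg.Agent.Lib.Forms.SmallPerm

/-!
# The degenerate case `PΩ⁺₄(2)`, a group of order 18
-/

set_option autoImplicit false

namespace Cfsg.Agent.Steinberg.PlusFourTwo

open Matrix Cfsg.Agent.S2566
open scoped commutatorElement

local notation "O4" => Cfsg.isometryGroup (ZMod 2) (Cfsg.quadFormPlus 2 (ZMod 2))

/-- A finite non-abelian group whose order is even and divides `18` has the required character. -/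
theorem exists_character_eighteen {H : Type*} [Group H] [Finite H] (h18 : Nat.card H ∣ 18)
    (h2 : 2 ∣ Nat.card H) (hne : ∃ a b : H, a * b ≠ b * a) :
    ∃ χ : H → ℂ, Cfsg.IsIrrCharacter H χ ∧ ∀ P : Sylow 2 H, χ 1 = Nat.card P ∧
      ∀ x : H, x ∈ P → x ≠ 1 → χ x = 0 := by
  haveI := Fact.mk Nat.prime_three
  haveI := Fact.mk Nat.prime_two
  obtain ⟨c, hc⟩ := h2
  have hc9 : c ∣ 9 := by
    rw [hc] at h18
    exact Nat.dvd_of_mul_dvd_mul_left two_pos (by simpa using h18)
  obtain ⟨k, hk2, rfl⟩ := (Nat.dvd_prime_pow Nat.prime_three).1 (show c ∣ 3 ^ 2 by simpa using hc9)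
  obtain ⟨A⟩ : Nonempty (Sylow 3 H) := inferInstance
  have hA : Nat.card A = 3 ^ k := by
    rw [A.card_eq_multiplicity, hc, Nat.factorization_mul two_ne_zero (pow_ne_zero _ three_ne_zero)]
    simp [Nat.Prime.factorization_self Nat.prime_three, Nat.prime_three, Nat.prime_two]
  have hidx : (A : Subgroup H).index = 2 := by
    have h := Subgroup.index_mul_card (A : Subgroup H)
    rw [show Nat.card (A : Subgroup H) = 3 ^ k from hA, hc] at h
    exact Nat.eq_of_mul_eq_mul_right (pow_pos three_pos k) h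
  haveI := Subgroup.normal_of_index_eq_two hidx
  have hab : ∀ a ∈ (A : Subgroup H), ∀ b ∈ (A : Subgroup H), a * b = b * a := by
    intro a ha b hb
    have hcomm : ∀ x y : A, x * y = y * x := by
      interval_cases k
      · intro x y
        have : Subsingleton A := (Nat.card_eq_one_iff_unique.1 (by simpa using hA)).1
        exact Subsingleton.elim _ _
      · haveI : IsCyclic A := isCyclic_of_prime_card (p := 3) (by simpa using hA)
        letI := IsCyclic.commGroup (α := A)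
        exact fun x y => mul_comm x y
      · exact fun x y => IsPGroup.commutative_of_card_eq_prime_sq (p := 3) hA x y
    exact congrArg Subtype.val (hcomm ⟨a, ha⟩ ⟨b, hb⟩)
  obtain ⟨χ, hχ1⟩ : ∃ χ : Cfsg.IrrCharacter H, (χ : H → ℂ) 1 ≠ 1 := by
    by_contra hall
    push Not at hall
    obtain ⟨a, b, hab'⟩ := hne
    exact hab' (Cfsg.Agent.Characters.comm_of_forall_degree_one hall a b)
  obtain ⟨d, hd, hdvd⟩ := Cfsg.Agent.CharTheory.Ito.degree_dvd_index_abelian (A : Subgroup H) hab χ.2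
  rw [hidx] at hdvd
  obtain rfl : d = 2 := by
    rcases (Nat.dvd_prime Nat.prime_two).1 hdvd with rfl | rfl
    · exact absurd (by simpa using hd) hχ1
    · rfl
  have hP : ∀ P : Sylow 2 H, Nat.card P = 2 := fun P => by
    rw [P.card_eq_multiplicity, hc, Nat.factorization_mul two_ne_zero (pow_ne_zero _ three_ne_zero)]
    simp [Nat.Prime.factorization_self Nat.prime_two, Nat.prime_two, Nat.prime_three]
  refine ⟨χ, χ.2, fun P => ⟨by rw [hP, hd], fun x hx hx1 => ?_⟩⟩
  refine Cfsg.Agent.BlockCharsA.DefectZeroVanish.eq_zero_of_singular Nat.prime_two χ ?_ ?_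
  · rw [show Cfsg.charDegree (χ : H → ℂ) = 2 from by
      rw [← Nat.cast_inj (R := ℂ), Cfsg.Agent.Blocks.charDegree_cast, hd], ← P.card_eq_multiplicity, hP]
  · obtain ⟨n, hn⟩ := IsPGroup.iff_orderOf.1 P.isPGroup' ⟨x, hx⟩
    rw [Subgroup.orderOf_mk] at hn
    rw [hn]
    exact dvd_pow_self 2 fun e0 => hx1 (orderOf_eq_one_iff.1 (by rw [hn, e0, pow_zero]))

/-- The nine non-zero singular vectors. -/
abbrev Sing : Type := {v : Fin 2 ⊕ Fin 2 → ZMod 2 // Cfsg.quadFormPlus 2 (ZMod 2) v = 0 ∧ v ≠ 0}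

/-- The action of an isometry on the singular vectors. -/
def permOf (g : O4) : Equiv.Perm Sing where
  toFun v := ⟨(g.1 : M4) *ᵥ v.1, (g.2 v.1 v.1).trans v.2.1, fun h => v.2.2 (by
    have := congrArg ((g⁻¹).1.1 *ᵥ ·) h
    simpa [Matrix.mulVec_mulVec] using this)⟩
  invFun v := ⟨((g⁻¹).1 : M4) *ᵥ v.1, ((g⁻¹).2 v.1 v.1).trans v.2.1, fun h => v.2.2 (by
    have := congrArg (g.1.1 *ᵥ ·) h
    simpa [Matrix.mulVec_mulVec] using this)⟩
  left_inv v := Subtype.ext (by simp [Matrix.mulVec_mulVec])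
  right_inv v := Subtype.ext (by simp [Matrix.mulVec_mulVec])

/-- The sign of this action. -/
def sgnHom : O4 →* ℤˣ :=
  Equiv.Perm.sign.comp (MonoidHom.mk' permOf fun g h => Equiv.ext fun v => Subtype.ext
    (by simp [permOf, Matrix.mulVec_mulVec]))

/-- A transvection. -/
def sT : Matrix.SpecialLinearGroup (Fin 2) (ZMod 2) := ⟨!![1, 1; 0, 1], by decide⟩

/-- An element of order three. -/
def rT : Matrix.SpecialLinearGroup (Fin 2) (ZMod 2) := ⟨!![0, 1; 1, 1], by decide⟩

theorem sgn_sT : sgnHom (lHom sT) = -1 := by decide +kernel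

theorem fact_witness : (⁅tpO, lHom sT⁆ : O4) * ⁅⁅tpO, lHom sT⁆, ⁅lHom rT, lHom sT⁆⁆ ≠
    ⁅⁅tpO, lHom sT⁆, ⁅lHom rT, lHom sT⁆⁆ * ⁅tpO, lHom sT⁆ := by decide +kernel

theorem fact_sq : (⁅tpO, lHom sT⁆ : O4) * ⁅tpO, lHom sT⁆ = 1 := by decide +kernel

theorem card_sl : Nat.card (Matrix.SpecialLinearGroup (Fin 2) (ZMod 2)) = 6 := by
  obtain ⟨e⟩ := Cfsg.Agent.S0250.result (F := ZMod 2) (by simp)
  rw [Nat.card_congr e.toEquiv, Nat.card_perm, Nat.card_fin]
  rfl

/-- The group theoretic core of the degenerate case. -/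
theorem core_lemma {O L : Type*} [Group O] [Finite O] [Group L] (φ : L →* O)
    (hφ : Function.Injective φ) (hcO : Nat.card O = 72) (hcL : Nat.card L = 36) (σ : O →* ℤˣ)
    (l : L) (hl : σ (φ l) = -1) (a b c d : O) (h2 : ⁅a, b⁆ * ⁅a, b⁆ = 1)
    (hw : ⁅a, b⁆ * ⁅⁅a, b⁆, ⁅c, d⁆⁆ ≠ ⁅⁅a, b⁆, ⁅c, d⁆⁆ * ⁅a, b⁆) :
    ∃ χ : commutator O ⧸ Subgroup.center (commutator O) → ℂ,
      Cfsg.IsIrrCharacter (commutator O ⧸ Subgroup.center (commutator O)) χ ∧
      ∀ P : Sylow 2 (commutator O ⧸ Subgroup.center (commutator O)), χ 1 = Nat.card P ∧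
        ∀ x, x ∈ P → x ≠ 1 → χ x = 0 := by
  have hK : φ.range.index = 2 := by
    have h1 := Subgroup.index_mul_card φ.range
    rw [hcO, Nat.card_congr (MonoidHom.ofInjective hφ).toEquiv.symm, hcL] at h1
    omega
  set ψ := σ.comp φ with hψ
  have hL0 : Nat.card ψ.ker = 18 := by
    have hsurj : Function.Surjective ψ := fun u => by
      rcases Int.units_eq_one_or u with rfl | rfl
      · exact ⟨1, map_one _⟩
      · exact ⟨l, hl⟩
    have hi : ψ.ker.index = 2 := by
      rw [Subgroup.index_ker, MonoidHom.range_eq_top.2 hsurj, Subgroup.card_top,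
        Nat.card_eq_fintype_card]
      rfl
    have := Subgroup.index_mul_card ψ.ker
    rw [hi, hcL] at this
    omega
  have hle : commutator O ≤ ψ.ker.map φ := by
    intro g hg
    have h1 : g ∈ φ.range := by
      refine (show commutator O ≤ φ.range from ?_) hg
      rw [commutator_def, Subgroup.commutator_le]
      intro a _ b _
      simp only [commutatorElement_def, Subgroup.mul_mem_iff_of_index_two hK, inv_mem_iff]
      tauto
    obtain ⟨l, rfl⟩ := h1
    exact ⟨l, MonoidHom.mem_ker.1 (Abelianization.commutator_subset_ker σ hg), rfl⟩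
  have h18 : Nat.card (commutator O ⧸ Subgroup.center (commutator O)) ∣ 18 := by
    refine (Subgroup.card_quotient_dvd_card _).trans ((Subgroup.card_dvd_of_le hle).trans ?_)
    rw [← hL0]
    exact Subgroup.card_map_dvd _ _
  let x : commutator O :=
    ⟨⁅a, b⁆, Subgroup.commutator_mem_commutator (Subgroup.mem_top _) (Subgroup.mem_top _)⟩
  let y : commutator O :=
    ⟨⁅c, d⁆, Subgroup.commutator_mem_commutator (Subgroup.mem_top _) (Subgroup.mem_top _)⟩
  have hxy : ⁅x, y⁆ ∉ Subgroup.center (commutator O) := fun hc =>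
    hw (congrArg Subtype.val (Subgroup.mem_center_iff.1 hc x))
  have hne : (x : commutator O ⧸ Subgroup.center (commutator O)) * y ≠ y * x := fun he => hxy (by
    rw [← QuotientGroup.eq_one_iff, commutatorElement_def]
    simp only [QuotientGroup.mk_mul, QuotientGroup.mk_inv]
    rw [he]
    group)
  refine exists_character_eighteen h18 ?_ ⟨_, _, hne⟩
  have hx2 : (x : commutator O ⧸ Subgroup.center (commutator O)) * x = 1 := by
    rw [← QuotientGroup.mk_mul, show x * x = 1 from Subtype.ext h2, QuotientGroup.mk_one]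
  have hx1 : (x : commutator O ⧸ Subgroup.center (commutator O)) ≠ 1 := fun h => hne (by
    rw [h, one_mul, mul_one])
  have ho := orderOf_eq_prime (p := 2) (by rw [sq]; exact hx2) hx1
  exact ho ▸ orderOf_dvd_natCard _

theorem result_two :
    ∃ χ : Cfsg.POmega (ZMod 2) (Cfsg.quadFormPlus 2 (ZMod 2)) → ℂ,
      Cfsg.IsIrrCharacter (Cfsg.POmega (ZMod 2) (Cfsg.quadFormPlus 2 (ZMod 2))) χ ∧
      ∀ P : Sylow 2 (Cfsg.POmega (ZMod 2) (Cfsg.quadFormPlus 2 (ZMod 2))), χ 1 = Nat.card P ∧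
        ∀ x : Cfsg.POmega (ZMod 2) (Cfsg.quadFormPlus 2 (ZMod 2)), x ∈ P → x ≠ 1 → χ x = 0 :=
  core_lemma (MonoidHom.noncommCoprod lHom rHom hom_comm) hom_injective
    Cfsg.Agent.S2566.result.1 (by rw [Nat.card_prod, card_sl]) sgnHom (sT, 1)
    (by rw [MonoidHom.noncommCoprod_apply, map_one, mul_one]; exact sgn_sT)
    tpO (lHom sT) (lHom rT) (lHom sT) fact_sq fact_witness

theorem commutator_map {G H : Type*} [Group G] [Group H] (e : G ≃* H) :
    (commutator G).map e.toMonoidHom = commutator H := by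
  rw [map_commutator_eq, MonoidHom.range_eq_top.2 e.surjective]
  rfl

/-- The case of `q = 2`, `m = 2`. -/
theorem result {F : Type*} [Field F] [Fintype F] (hF : Fintype.card F = 2) :
    ∃ χ : Cfsg.POmega F (Cfsg.quadFormPlus 2 F) → ℂ,
      Cfsg.IsIrrCharacter (Cfsg.POmega F (Cfsg.quadFormPlus 2 F)) χ ∧
      ∀ P : Sylow 2 (Cfsg.POmega F (Cfsg.quadFormPlus 2 F)), χ 1 = Nat.card P ∧
        ∀ x : Cfsg.POmega F (Cfsg.quadFormPlus 2 F), x ∈ P → x ≠ 1 → χ x = 0 := by
  classical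
  haveI : Finite F := Finite.of_fintype F
  let e : ZMod 2 ≃+* F := ZMod.ringEquivOfPrime F Nat.prime_two hF
  let E : O4 ≃* Cfsg.isometryGroup F (Cfsg.quadFormPlus 2 F) :=
    Cfsg.Agent.Forms.SmallPerm.isoCongr e fun v => by simp [Cfsg.quadFormPlus]
  let EΩ : Cfsg.Omega (ZMod 2) (Cfsg.quadFormPlus 2 (ZMod 2)) ≃*
      Cfsg.Omega F (Cfsg.quadFormPlus 2 F) :=
    (E.subgroupMap _).trans (MulEquiv.subgroupCongr (commutator_map E))
  have hc : (Subgroup.center (Cfsg.Omega F (Cfsg.quadFormPlus 2 F))).map EΩ.symm.toMonoidHom =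
      Subgroup.center (Cfsg.Omega (ZMod 2) (Cfsg.quadFormPlus 2 (ZMod 2))) := by
    ext z
    rw [Subgroup.mem_map_equiv, Subgroup.mem_center_iff, Subgroup.mem_center_iff, MulEquiv.symm_symm]
    refine ⟨fun h g => EΩ.injective ?_, fun h g => EΩ.symm.injective ?_⟩
    · rw [map_mul, map_mul]; exact h _
    · rw [map_mul, map_mul, EΩ.symm_apply_apply]; exact h _
  haveI := Fact.mk Nat.prime_two
  exact Cfsg.Agent.S2549.transfer 2 (QuotientGroup.congr _ _ EΩ.symm hc) result_two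

end Cfsg.Agent.Steinberg.PlusFourTwo
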