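import Mathlib

/-!
# Polar spaces in coordinates: perpendiculars, totally singular subspaces, chambers

`Polar F V m` packages a non-degenerate reflexive sesquilinear form `B`, a companion function `Q`
(zero for symplectic forms, `B v v` for hermitian forms, the quadratic form for orthogonal geometries)
and the Witt index `m`.
-/

set_option autoImplicit false

open Module Submodule

namespace Cfsg.Agent.Steinberg

/-- A finite dimensional classical polar space of Witt index `m`. -/
structure Polar (F : Type*) [Field F] (V : Type*) [AddCommGroup V] [Module F V] (m : ℕ) where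
  sig : F →+* F
  sig_surj : Function.Surjective sig
  B : V →ₛₗ[sig] V →ₗ[F] F
  sw : F → F
  sw_zero : sw 0 = 0
  swap : ∀ u v, B v u = sw (B u v)
  nondeg : ∀ u, (∀ v, B u v = 0) → u = 0
  Q : V → F
  tau : F → F
  tau_zero : tau 0 = 0
  Q_zero : Q 0 = 0
  Q_add : ∀ u v, Q (u + v) = Q u + Q v + tau (B u v)
  sing_smul : ∀ (a : F) v, Q v = 0 → Q (a • v) = 0
  sing_iso : ∀ v, Q v = 0 → B v v = 0
  partner : ∀ x y, Q x = 0 → B x y ≠ 0 → ∃ t : F, Q (y + t • x) = 0
  exists_top : ∃ X : Submodule F V, finrank F X = m ∧ (∀ x ∈ X, Q x = 0) ∧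
    ∀ x ∈ X, ∀ y ∈ X, B x y = 0
  le_index : ∀ W : Submodule F V, (∀ x ∈ W, Q x = 0) → (∀ x ∈ W, ∀ y ∈ W, B x y = 0) →
    finrank F W ≤ m

namespace Polar

variable {F : Type*} [Field F] {V : Type*} [AddCommGroup V] [Module F V] {m : ℕ}
variable (P : Polar F V m)

theorem refl {u v : V} (h : P.B u v = 0) : P.B v u = 0 := by rw [P.swap, h, P.sw_zero]

/-- The perpendicular of a subspace. -/
def perp (W : Submodule F V) : Submodule F V where
  carrier := {v | ∀ w ∈ W, P.B w v = 0}
  add_mem' := fun ha hb w hw => by rw [map_add, ha w hw, hb w hw, add_zero]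
  zero_mem' := fun _ _ => map_zero _
  smul_mem' := fun c x hx w hw => by rw [map_smul, hx w hw, smul_zero]

theorem mem_perp {W : Submodule F V} {v : V} : v ∈ P.perp W ↔ ∀ w ∈ W, P.B w v = 0 := Iff.rfl

theorem perp_anti {W W' : Submodule F V} (h : W ≤ W') : P.perp W' ≤ P.perp W :=
  fun _ hv w hw => hv w (h hw)

theorem le_perp_comm {W W' : Submodule F V} (h : W ≤ P.perp W') : W' ≤ P.perp W :=
  fun _ hv _ hw => P.refl (h hw _ hv)

theorem perp_bot : P.perp ⊥ = ⊤ :=
  eq_top_iff.2 fun v _ w hw => by simp [(Submodule.mem_bot F).1 hw]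

theorem mem_perp_span {S : Set V} {v : V} : v ∈ P.perp (span F S) ↔ ∀ s ∈ S, P.B s v = 0 := by
  refine ⟨fun h s hs => h s (subset_span hs), fun h => ?_⟩
  have h1 : span F S ≤ LinearMap.ker (P.B v) :=
    span_le.2 fun s hs => LinearMap.mem_ker.2 (P.refl (h s hs))
  exact fun w hw => P.refl (LinearMap.mem_ker.1 (h1 hw))

theorem mem_perp_sup {W W' : Submodule F V} {v : V} :
    v ∈ P.perp (W ⊔ W') ↔ v ∈ P.perp W ∧ v ∈ P.perp W' := by
  refine ⟨fun h => ⟨P.perp_anti le_sup_left h, P.perp_anti le_sup_right h⟩, fun h w hw => ?_⟩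
  obtain ⟨a, ha, b, hb, rfl⟩ := mem_sup.1 hw
  rw [map_add, LinearMap.add_apply, h.1 a ha, h.2 b hb, add_zero]

theorem finrank_perp [FiniteDimensional F V] (W : Submodule F V) :
    finrank F W + finrank F (P.perp W) = finrank F V := by
  let b := Module.finBasis F W
  let φ : Fin (finrank F W) → Dual F V := fun i => P.B (b i : V)
  have hli : LinearIndependent F φ := by
    rw [Fintype.linearIndependent_iff]
    intro c hc i
    choose d hd using fun j => P.sig_surj (c j)
    have h0 : P.B ((∑ j, d j • b j : W) : V) = 0 := by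
      simp only [Submodule.coe_sum, Submodule.coe_smul, map_sum]
      rw [← hc]
      exact Finset.sum_congr rfl fun j _ => by rw [LinearMap.map_smulₛₗ, hd]
    have h1 : (∑ j, d j • b j : W) = 0 :=
      Subtype.ext (P.nondeg _ fun v => LinearMap.congr_fun h0 v)
    have h2 := Fintype.linearIndependent_iff.1 b.linearIndependent d h1 i
    rw [← hd i, h2, map_zero]
  have hW : span F (Set.range fun i => (b i : V)) = W := by
    have := congrArg (Submodule.map W.subtype) b.span_eq
    rwa [Submodule.map_span, ← Set.range_comp, Submodule.map_top, Submodule.range_subtype] at this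
  have hperp : P.perp W = (span F (Set.range φ)).dualCoannihilator := by
    ext v
    rw [← congrArg P.perp hW, mem_perp_span, Submodule.mem_dualCoannihilator]
    constructor
    · intro h ψ hψ
      have hle : span F (Set.range φ) ≤ LinearMap.ker (Module.Dual.eval F V v) :=
        span_le.2 (by rintro _ ⟨i, rfl⟩; exact h _ ⟨i, rfl⟩)
      exact hle hψ
    · rintro h _ ⟨i, rfl⟩
      exact h _ (subset_span ⟨i, rfl⟩)
  have h1 := Subspace.finrank_add_finrank_dualCoannihilator_eq (span F (Set.range φ))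
  rw [finrank_span_eq_card hli, Fintype.card_fin, ← hperp] at h1
  exact h1

/-! ### Totally singular subspaces -/

/-- A totally singular subspace. -/
def TS (W : Submodule F V) : Prop := (∀ x ∈ W, P.Q x = 0) ∧ ∀ x ∈ W, ∀ y ∈ W, P.B x y = 0

theorem ts_mono {W W' : Submodule F V} (h : W ≤ W') (hW : P.TS W') : P.TS W :=
  ⟨fun x hx => hW.1 x (h hx), fun x hx y hy => hW.2 x (h hx) y (h hy)⟩

theorem ts_le_perp {W : Submodule F V} (hW : P.TS W) : W ≤ P.perp W :=
  fun y hy x hx => hW.2 x hx y hy

theorem ts_span {S : Set V} (h0 : ∀ s ∈ S, P.Q s = 0) (h1 : ∀ s ∈ S, ∀ t ∈ S, P.B s t = 0) :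
    P.TS (span F S) := by
  have hB : ∀ x ∈ span F S, ∀ y ∈ span F S, P.B x y = 0 := by
    intro x hx y hy
    have : span F S ≤ P.perp (span F S) :=
      span_le.2 fun s hs => P.mem_perp_span.2 fun t ht => h1 t ht s hs
    exact this hy x hx
  refine ⟨fun x hx => ?_, hB⟩
  induction hx using span_induction with
  | mem x hx => exact h0 x hx
  | zero => exact P.Q_zero
  | add x y hx hy ihx ihy => rw [P.Q_add, ihx, ihy, hB x hx y hy, P.tau_zero]; simp
  | smul a x _ ih => exact P.sing_smul a x ih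

theorem ts_sup {W W' : Submodule F V} (hW : P.TS W) (hW' : P.TS W') (h : W' ≤ P.perp W) :
    P.TS (W ⊔ W') := by
  have := P.ts_span (S := (W : Set V) ∪ W')
    (by rintro s (hs | hs); exacts [hW.1 s hs, hW'.1 s hs])
    (by rintro s (hs | hs) t (ht | ht)
        exacts [hW.2 s hs t ht, h ht s hs, P.refl (h hs t ht), hW'.2 s hs t ht])
  rwa [span_union, span_eq, span_eq] at this

theorem ts_span_singleton {v : V} (hv : P.Q v = 0) : P.TS (span F {v}) :=
  P.ts_span (by rintro s rfl; exact hv) (by rintro s rfl t rfl; exact P.sing_iso _ hv)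

theorem ts_le [FiniteDimensional F V] {W : Submodule F V} (hW : P.TS W) : finrank F W ≤ m :=
  P.le_index W hW.1 hW.2

/-- A totally singular subspace meets the perpendicular of a maximal one inside it. -/
theorem inf_perp_le [FiniteDimensional F V] {X W : Submodule F V} (hX : P.TS X) (hW : P.TS W)
    (hd : finrank F W = m) : X ⊓ P.perp W ≤ W := by
  have h1 : P.TS (W ⊔ X ⊓ P.perp W) := P.ts_sup hW (P.ts_mono inf_le_left hX) inf_le_right
  have h2 : W = W ⊔ X ⊓ P.perp W :=
    eq_of_le_of_finrank_le le_sup_left ((P.ts_le h1).trans hd.ge)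
  exact le_sup_right.trans h2.ge

theorem finrank_inf_le_succ [FiniteDimensional F V] (X : Submodule F V) {A B : Submodule F V}
    (hAB : A ≤ B) (hd : finrank F B ≤ finrank F A + 1) :
    finrank F ↥(X ⊓ B) ≤ finrank F ↥(X ⊓ A) + 1 := by
  have h1 := Submodule.finrank_sup_add_finrank_inf_eq (X ⊓ B) A
  have h2 : finrank F ↥(X ⊓ B ⊔ A) ≤ finrank F B := finrank_mono (sup_le inf_le_right hAB)
  have h3 : finrank F ↥(X ⊓ B ⊓ A) ≤ finrank F ↥(X ⊓ A) :=
    finrank_mono (le_inf (inf_le_left.trans inf_le_left) inf_le_right)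
  omega

/-! ### Chambers -/

/-- A chamber: a full flag of totally singular subspaces. -/
structure Cham where
  sub : ℕ → Submodule F V
  mono : Monotone sub
  dim : ∀ i ≤ m, finrank F (sub i) = i
  stab : ∀ i, m ≤ i → sub i = sub m
  ts : P.TS (sub m)

variable {P}

theorem Cham.ext' {C D : P.Cham} (h : ∀ i ≤ m, C.sub i = D.sub i) : C = D := by
  have : C.sub = D.sub := funext fun i => by
    rcases le_total i m with hi | hi
    · exact h i hi
    · rw [C.stab i hi, D.stab i hi, h m le_rfl]
  cases C; cases D; simp_all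

theorem Cham.le_top (C : P.Cham) (i : ℕ) : C.sub i ≤ C.sub m := by
  rcases le_total i m with hi | hi
  · exact C.mono hi
  · exact (C.stab i hi).le

theorem Cham.ts' (C : P.Cham) (i : ℕ) : P.TS (C.sub i) := P.ts_mono (C.le_top i) C.ts

theorem Cham.sub_zero [FiniteDimensional F V] (C : P.Cham) : C.sub 0 = ⊥ :=
  Submodule.finrank_eq_zero.1 (C.dim 0 (Nat.zero_le m))

instance [Finite V] : Finite P.Cham :=
  Finite.of_injective (fun C : P.Cham => fun i : Fin (m + 1) => (C.sub i : Set V)) fun C D h =>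
    Cham.ext' fun i hi => SetLike.ext' (congrFun h ⟨i, Nat.lt_succ_of_le hi⟩)

theorem finrank_perp_sub [FiniteDimensional F V] (C : P.Cham) {i : ℕ} (hi : i ≤ m) :
    i + finrank F (P.perp (C.sub i)) = finrank F V := by
  have := P.finrank_perp (C.sub i)
  rwa [C.dim i hi] at this

theorem two_mul_le [FiniteDimensional F V] (P : Polar F V m) : 2 * m ≤ finrank F V := by
  obtain ⟨X, hd, h0, h1⟩ := P.exists_top
  have := P.finrank_perp X
  have := finrank_mono (P.ts_le_perp ⟨h0, h1⟩)
  omega

/-- The filtration of `V` by the members of `C` and their perpendiculars. -/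
def E (C : P.Cham) (j : ℕ) : Submodule F V :=
  if j ≤ m then C.sub j else P.perp (C.sub (2 * m - j))

theorem E_le {C : P.Cham} {j : ℕ} (hj : j ≤ m) : E C j = C.sub j := if_pos hj

theorem E_gt {C : P.Cham} {j : ℕ} (hj : m < j) : E C j = P.perp (C.sub (2 * m - j)) :=
  if_neg (not_le.2 hj)

theorem E_mono (C : P.Cham) : Monotone (E C) := by
  intro i j hij
  unfold E
  split_ifs with hi hj
  · exact C.mono hij
  · exact (C.le_top i).trans ((P.ts_le_perp C.ts).trans (P.perp_anti (C.le_top _)))
  · omega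
  · exact P.perp_anti (C.mono (by omega))

theorem E_top [FiniteDimensional F V] (C : P.Cham) (hm : 1 ≤ m) : E C (2 * m) = ⊤ := by
  rw [E_gt (by omega), Nat.sub_self, C.sub_zero, P.perp_bot]

theorem E_zero [FiniteDimensional F V] (C : P.Cham) : E C 0 = ⊥ := by
  rw [E_le (Nat.zero_le m), C.sub_zero]

theorem inf_E_succ [FiniteDimensional F V] (C : P.Cham) {X : Submodule F V} (hX : P.TS X) (j : ℕ) :
    finrank F ↥(X ⊓ E C (j + 1)) ≤ finrank F ↥(X ⊓ E C j) + 1 := by
  rcases lt_trichotomy j m with hj | rfl | hj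
  · rw [E_le hj.le, E_le (by omega : j + 1 ≤ m)]
    refine finrank_inf_le_succ X (C.mono (Nat.le_succ j)) ?_
    rw [C.dim _ hj, C.dim _ hj.le]
  · rw [E_le le_rfl, E_gt (Nat.lt_succ_self j)]
    refine le_trans (finrank_inf_le_succ X (A := P.perp (C.sub j))
      (B := P.perp (C.sub (2 * j - (j + 1)))) ?_ ?_) ?_
    · exact P.perp_anti (C.le_top _)
    · have h1 := finrank_perp_sub C (i := 2 * j - (j + 1)) (by omega)
      have h2 := finrank_perp_sub C (i := j) le_rfl
      omega
    · exact Nat.add_le_add_right (finrank_mono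
        (le_inf inf_le_left (P.inf_perp_le hX C.ts (C.dim _ le_rfl)))) 1
  · rw [E_gt hj, E_gt (by omega : m < j + 1)]
    refine finrank_inf_le_succ X (P.perp_anti (C.mono (by omega))) ?_
    have h1 := finrank_perp_sub C (i := 2 * m - j) (by omega)
    have h2 := finrank_perp_sub C (i := 2 * m - (j + 1)) (by omega)
    omega

/-- Two opposite chambers. -/
def Opp (C D : P.Cham) : Prop := ∀ i ≤ m, D.sub i ⊓ P.perp (C.sub i) = ⊥

theorem Opp.symm [FiniteDimensional F V] {C D : P.Cham} (h : Opp C D) : Opp D C := by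
  intro i hi
  rw [eq_bot_iff]
  intro c hc
  obtain ⟨hcC, hcD⟩ := Submodule.mem_inf.1 hc
  refine (Submodule.mem_bot F).2 (P.nondeg c fun v => ?_)
  have hsup : D.sub i ⊔ P.perp (C.sub i) = ⊤ := by
    refine eq_top_of_finrank_eq ?_
    have h1 := Submodule.finrank_sup_add_finrank_inf_eq (D.sub i) (P.perp (C.sub i))
    rw [h i hi, finrank_bot, D.dim i hi] at h1
    have h2 := finrank_perp_sub C hi
    omega
  obtain ⟨d, hd, e, he, rfl⟩ := mem_sup.1 (hsup ▸ Submodule.mem_top : v ∈ D.sub i ⊔ P.perp (C.sub i))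
  rw [map_add, P.refl (hcD d hd), he c hcC, add_zero]

/-- The chambers `C` and `D` differ at most in their member of dimension `k`. -/
def Adj (k : ℕ) (C D : P.Cham) : Prop := ∀ i ≤ m, i ≠ k → C.sub i = D.sub i

theorem adj_refl (k : ℕ) (C : P.Cham) : Adj k C C := fun _ _ _ => rfl

theorem Adj.symm {k : ℕ} {C D : P.Cham} (h : Adj k C D) : Adj k D C :=
  fun i h1 h2 => (h i h1 h2).symm

theorem Adj.trans {k : ℕ} {C D E : P.Cham} (h : Adj k C D) (h' : Adj k D E) : Adj k C E :=
  fun i h1 h2 => (h i h1 h2).trans (h' i h1 h2)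

theorem Adj.eq {k : ℕ} {C D : P.Cham} (h : Adj k C D) (hk : C.sub k = D.sub k) : C = D :=
  Cham.ext' fun i hi => if hik : i = k then hik ▸ hk else h i hi hik

end Polar

end Cfsg.Agent.Steinberg
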