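import Cfsg.Agent.Lib.Steinberg.Frame

/-!
# Unipotent isometries of a polar space and the chambers they fix
-/

set_option autoImplicit false

open Module Submodule

namespace Cfsg.Agent.Steinberg.Polar

variable {F : Type*} [Field F] {V : Type*} [AddCommGroup V] [Module F V] {m : ℕ}

/-- An isometry. -/
def IsIso (P : Polar F V m) (g : V →ₗ[F] V) : Prop :=
  (∀ u v, P.B (g u) (g v) = P.B u v) ∧ ∀ v, P.Q (g v) = P.Q v

variable {P : Polar F V m}

/-- `g` centralises every factor of the flag of `C` and the anisotropic core. -/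
def Unip (C : P.Cham) (g : V →ₗ[F] V) : Prop :=
  (∀ i, i < m → ∀ x ∈ C.sub (i + 1), g x - x ∈ C.sub i) ∧
    ∀ x ∈ P.perp (C.sub m), g x - x ∈ C.sub m

theorem Unip.map_le {C : P.Cham} {g : V →ₗ[F] V} (h : Unip C g) [FiniteDimensional F V] (i : ℕ) :
    ∀ x ∈ C.sub i, g x ∈ C.sub i := by
  intro x hx
  rcases Nat.eq_zero_or_pos i with rfl | hi
  · rw [C.sub_zero, mem_bot] at hx ⊢; rw [hx, map_zero]
  by_cases him : i ≤ m
  · obtain ⟨k, rfl⟩ : ∃ k, i = k + 1 := ⟨i - 1, by omega⟩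
    have := add_mem (C.mono (Nat.le_succ k) (h.1 k him x hx)) hx
    rwa [sub_add_cancel] at this
  · rw [C.stab i (by omega)] at hx ⊢
    have := add_mem (h.2 x (P.ts_le_perp C.ts hx)) hx
    rwa [sub_add_cancel] at this

theorem IsIso.injective {g : V →ₗ[F] V} (h : IsIso P g) : Function.Injective g := by
  intro x y hxy
  rw [← sub_eq_zero]
  refine P.nondeg _ fun v => ?_
  have := h.1 (x - y) v
  rw [map_sub, hxy, sub_self, map_zero, LinearMap.zero_apply] at this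
  exact this.symm

theorem Unip.map_eq {C : P.Cham} {g : V →ₗ[F] V} (hg : IsIso P g) (h : Unip C g)
    [FiniteDimensional F V] (i : ℕ) : (C.sub i).map g = C.sub i :=
  eq_of_le_of_finrank_eq (Submodule.map_le_iff_le_comap.2 (h.map_le i))
    (Submodule.equivMapOfInjective g hg.injective (C.sub i)).finrank_eq.symm

theorem Unip.mem_perp {C : P.Cham} {g : V →ₗ[F] V} (hg : IsIso P g) (h : Unip C g)
    [FiniteDimensional F V] {i : ℕ} (hi : i < m) {x : V} (hx : x ∈ P.perp (C.sub i)) :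
    g x - x ∈ P.perp (C.sub (i + 1)) := by
  intro c hc
  rw [← h.map_eq hg (i + 1)] at hc
  obtain ⟨d, hd, rfl⟩ := hc
  have h0 := hx _ (h.1 i hi d hd)
  rw [map_sub, LinearMap.sub_apply, sub_eq_zero] at h0
  rw [map_sub, hg.1, h0, sub_self]

/-- Unipotent isometries have `p`-power order in characteristic `p`. -/
theorem Unip.pow_eq_one {C : P.Cham} {g : Module.End F V} (hg : IsIso P g) (h : Unip C g)
    [FiniteDimensional F V] (p : ℕ) [Fact p.Prime] [CharP F p] : g ^ (p ^ (2 * m + 1)) = 1 := by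
  set φ : Module.End F V := g - 1 with hφ
  have hap : ∀ x, φ x = g x - x := fun x => by simp [hφ]
  have h1 : ∀ j ≤ m, ∀ x, (φ ^ j) x ∈ P.perp (C.sub j) := by
    intro j
    induction j with
    | zero => intro _ x; rw [C.sub_zero, P.perp_bot]; trivial
    | succ j ih =>
      intro hj x
      rw [pow_succ', Module.End.mul_apply, hap]
      exact h.mem_perp hg hj (ih (by omega) x)
  have h2 : ∀ j ≤ m, ∀ x, (φ ^ (m + 1 + j)) x ∈ C.sub (m - j) := by
    intro j
    induction j with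
    | zero =>
      intro _ x
      rw [Nat.add_zero, pow_succ', Module.End.mul_apply, hap, Nat.sub_zero]
      exact h.2 _ (h1 m le_rfl x)
    | succ j ih =>
      intro hj x
      rw [← Nat.add_assoc, pow_succ', Module.End.mul_apply, hap]
      have := ih (by omega) x
      rw [show m - j = m - (j + 1) + 1 by omega] at this
      exact h.1 _ (by omega) _ this
  have hz : φ ^ (p ^ (2 * m + 1)) = 0 := by
    have h3 : φ ^ (2 * m + 1) = 0 := LinearMap.ext fun x => by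
      have := h2 m le_rfl x
      rw [Nat.sub_self, C.sub_zero, mem_bot, show m + 1 + m = 2 * m + 1 by omega] at this
      exact this
    exact pow_eq_zero_of_le (Nat.lt_pow_self (Fact.out : p.Prime).one_lt).le h3
  have hpoly := congrArg (Polynomial.aeval g) (sub_pow_char_pow (n := 2 * m + 1) (p := p)
    (Polynomial.X : Polynomial F) 1)
  simp only [map_pow, map_sub, Polynomial.aeval_X, map_one, one_pow] at hpoly
  rw [← hφ, hz, eq_comm, sub_eq_zero] at hpoly
  exact hpoly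

namespace Frame

variable (Φ : Frame P)

/-- The vectors perpendicular to the frame. -/
def InCore (x : V) : Prop := ∀ i, P.B (Φ.e i) x = 0 ∧ P.B (Φ.f i) x = 0

theorem InCore.left {Φ : Frame P} {x : V} (h : Φ.InCore x) (i : Fin m) :
    P.B x (Φ.e i) = 0 ∧ P.B x (Φ.f i) = 0 := ⟨P.refl (h i).1, P.refl (h i).2⟩

/-- Coordinates on the `e i`. -/
def ca (v : V) (i : Fin m) : F := P.B (Φ.f i) v

/-- Coordinates on the `f i`. -/
noncomputable def cb (v : V) (i : Fin m) : F := (P.sw 1)⁻¹ * P.B (Φ.e i) v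

/-- The component in the core. -/
noncomputable def core : V →ₗ[F] V :=
  LinearMap.id - ∑ i, (P.B (Φ.f i)).smulRight (Φ.e i)
    - ∑ i, ((P.sw 1)⁻¹ • P.B (Φ.e i)).smulRight (Φ.f i)

theorem core_apply (v : V) :
    Φ.core v = v - ∑ i, Φ.ca v i • Φ.e i - ∑ i, Φ.cb v i • Φ.f i := by
  simp [core, ca, cb]

theorem B_comb (a b : Fin m → F) (i : Fin m) :
    P.B (Φ.e i) (∑ j, a j • Φ.e j + ∑ j, b j • Φ.f j) = b i * P.sw 1 ∧
    P.B (Φ.f i) (∑ j, a j • Φ.e j + ∑ j, b j • Φ.f j) = a i := by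
  simp [map_sum, Φ.ee, Φ.ff, Φ.ef, Φ.fe]

theorem inCore_core (v : V) : Φ.InCore (Φ.core v) := by
  intro i
  have h := Φ.B_comb (Φ.ca v) (Φ.cb v) i
  rw [core_apply, sub_sub, map_sub, map_sub, h.1, h.2]
  refine ⟨?_, by simp [ca]⟩
  rw [cb, mul_comm _ (P.sw 1), ← mul_assoc, mul_inv_cancel₀ (Φ.sw_one_ne i), one_mul, sub_self]

theorem decomp (v : V) :
    ∑ i, Φ.ca v i • Φ.e i + ∑ i, Φ.cb v i • Φ.f i + Φ.core v = v := by
  rw [core_apply, sub_sub, add_sub_cancel]

theorem pair (a b a' b' : Fin m → F) {y y' : V} (hy : Φ.InCore y) (hy' : Φ.InCore y') :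
    P.B (∑ i, a i • Φ.e i + ∑ i, b i • Φ.f i + y) (∑ i, a' i • Φ.e i + ∑ i, b' i • Φ.f i + y') =
      ∑ i, P.sig (a i) * (b' i * P.sw 1) + ∑ i, P.sig (b i) * a' i + P.B y y' := by
  simp only [map_add, LinearMap.add_apply, map_sum, LinearMap.sum_apply, LinearMap.map_smulₛₗ,
    map_smul, LinearMap.smul_apply, RingHom.id_apply, smul_eq_mul]
  simp [Φ.ee, Φ.ff, Φ.ef, Φ.fe, (hy' _).1, (hy' _).2, (hy.left _).1, (hy.left _).2]
  rw [add_comm]
  refine congrArg₂ (· + ·) ?_ ?_ <;> exact Finset.sum_congr rfl fun _ _ => by ring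

theorem sing_sum_e (a : Fin m → F) : P.Q (∑ i, a i • Φ.e i) = 0 :=
  (P.ts_span (S := Set.range Φ.e) (by rintro _ ⟨i, rfl⟩; exact Φ.sing_e i)
    (by rintro _ ⟨i, rfl⟩ _ ⟨j, rfl⟩; exact Φ.ee i j)).1 _
      (sum_mem fun i _ => smul_mem _ _ (subset_span ⟨i, rfl⟩))

theorem sing_sum_f (a : Fin m → F) : P.Q (∑ i, a i • Φ.f i) = 0 :=
  (P.ts_span (S := Set.range Φ.f) (by rintro _ ⟨i, rfl⟩; exact Φ.sing_f i)
    (by rintro _ ⟨i, rfl⟩ _ ⟨j, rfl⟩; exact Φ.ff i j)).1 _
      (sum_mem fun i _ => smul_mem _ _ (subset_span ⟨i, rfl⟩))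

theorem Q_decomp (a b : Fin m → F) {y : V} (hy : Φ.InCore y) :
    P.Q (∑ i, a i • Φ.e i + ∑ i, b i • Φ.f i + y) =
      P.tau (∑ i, P.sig (a i) * (b i * P.sw 1)) + P.Q y := by
  have h1 : P.B (∑ i, a i • Φ.e i + ∑ i, b i • Φ.f i) y = 0 := by
    simp [map_sum, (hy _).1, (hy _).2]
  have h2 : P.B (∑ i, a i • Φ.e i) (∑ i, b i • Φ.f i) = ∑ i, P.sig (a i) * (b i * P.sw 1) := by
    simp [map_sum, Φ.ef, mul_left_comm, mul_comm, mul_assoc]
  rw [P.Q_add, P.Q_add, h1, h2, P.tau_zero, Φ.sing_sum_e, Φ.sing_sum_f]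
  simp

theorem chC_eq (i : ℕ) : Φ.chC.sub i = span F (Φ.e '' {p | (p : ℕ) < i}) := rfl

theorem chC_top : Φ.chC.sub m = span F (Set.range Φ.e) := by
  rw [chC_eq]
  congr 1
  ext x
  exact ⟨fun ⟨p, _, h⟩ => ⟨p, h⟩, fun ⟨p, h⟩ => ⟨p, p.2, h⟩⟩

/-- The linear map carrying `Φ` to `Ψ`, shearing the core. -/
noncomputable def toFrame (Ψ : Frame P) : V →ₗ[F] V :=
  ∑ i, (P.B (Φ.f i)).smulRight (Ψ.e i) + ∑ i, ((P.sw 1)⁻¹ • P.B (Φ.e i)).smulRight (Ψ.f i)
    + (LinearMap.id - ∑ i, (P.B (Ψ.f i)).smulRight (Ψ.e i)) ∘ₗ Φ.core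

theorem toFrame_apply (Ψ : Frame P) (v : V) :
    Φ.toFrame Ψ v = ∑ i, Φ.ca v i • Ψ.e i + ∑ i, Φ.cb v i • Ψ.f i
      + (Φ.core v - ∑ i, P.B (Ψ.f i) (Φ.core v) • Ψ.e i) := by
  simp [toFrame, ca, cb]

variable {Φ} {Ψ : Frame P} (hΨ : ∀ i : Fin m, Ψ.e i - Φ.e i ∈ Φ.chC.sub i)
include hΨ

theorem e_mem_of : ∀ i, Ψ.e i ∈ Φ.chC.sub m := fun i => by
  have := add_mem (Φ.chC.le_top _ (hΨ i)) (Φ.e_mem i i.2)
  rwa [sub_add_cancel] at this

theorem inCore_shift {y : V} (hy : Φ.InCore y) :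
    Ψ.InCore (y - ∑ i, P.B (Ψ.f i) y • Ψ.e i) := by
  have he : ∀ i, P.B (Ψ.e i) y = 0 := fun i =>
    ((P.mem_perp_span).2 (by rintro _ ⟨j, rfl⟩; exact (hy j).1) :
      y ∈ P.perp (span F (Set.range Φ.e))) _ (Φ.chC_top ▸ e_mem_of hΨ i)
  intro i
  constructor
  · simp [map_sum, Ψ.ee, he i]
  · simp [map_sum, Ψ.fe]

theorem B_shift {y y' : V} (hy : Φ.InCore y) (hy' : Φ.InCore y') :
    P.B (y - ∑ i, P.B (Ψ.f i) y • Ψ.e i) (y' - ∑ i, P.B (Ψ.f i) y' • Ψ.e i) = P.B y y' := by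
  have he : ∀ z, Φ.InCore z → ∀ i, P.B (Ψ.e i) z = 0 ∧ P.B z (Ψ.e i) = 0 := fun z hz i => by
    have : P.B (Ψ.e i) z = 0 :=
      ((P.mem_perp_span).2 (by rintro _ ⟨j, rfl⟩; exact (hz j).1) :
        z ∈ P.perp (span F (Set.range Φ.e))) _ (Φ.chC_top ▸ e_mem_of hΨ i)
    exact ⟨this, P.refl this⟩
  simp [map_sum, Ψ.ee, (he y hy _).2, (he y' hy' _).1]

theorem Q_shift {y : V} (hy : Φ.InCore y) :
    P.Q (y - ∑ i, P.B (Ψ.f i) y • Ψ.e i) = P.Q y := by
  have he : ∀ i, P.B y (Ψ.e i) = 0 := fun i => P.refl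
    (((P.mem_perp_span).2 (by rintro _ ⟨j, rfl⟩; exact (hy j).1) :
      y ∈ P.perp (span F (Set.range Φ.e))) _ (Φ.chC_top ▸ e_mem_of hΨ i))
  have h0 : y - ∑ i, P.B (Ψ.f i) y • Ψ.e i = y + ∑ i, (-P.B (Ψ.f i) y) • Ψ.e i := by
    simp [sub_eq_add_neg]
  rw [h0, P.Q_add, Ψ.sing_sum_e, show P.B y (∑ i, (-P.B (Ψ.f i) y) • Ψ.e i) = 0 by
    simp [map_sum, he], P.tau_zero]
  simp

theorem toFrame_isIso : IsIso P (Φ.toFrame Ψ) := by
  refine ⟨fun u v => ?_, fun v => ?_⟩
  · rw [toFrame_apply, toFrame_apply,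
      Ψ.pair _ _ _ _ (inCore_shift hΨ (Φ.inCore_core u)) (inCore_shift hΨ (Φ.inCore_core v)),
      B_shift hΨ (Φ.inCore_core u) (Φ.inCore_core v),
      ← Φ.pair _ _ _ _ (Φ.inCore_core u) (Φ.inCore_core v), Φ.decomp, Φ.decomp]
  · rw [toFrame_apply, Ψ.Q_decomp _ _ (inCore_shift hΨ (Φ.inCore_core v)),
      Q_shift hΨ (Φ.inCore_core v), ← Φ.Q_decomp _ _ (Φ.inCore_core v), Φ.decomp]

omit hΨ in
theorem toFrame_e (p : Fin m) : Φ.toFrame Ψ (Φ.e p) = Ψ.e p := by
  have hc : Φ.core (Φ.e p) = 0 := by simp [core_apply, ca, cb, Φ.fe, Φ.ee]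
  rw [toFrame_apply, hc]
  simp [ca, cb, Φ.fe, Φ.ee]

omit hΨ in
theorem toFrame_f (p : Fin m) : Φ.toFrame Ψ (Φ.f p) = Ψ.f p := by
  have hd := Φ.sw_one_ne p
  have hc : Φ.core (Φ.f p) = 0 := by simp [core_apply, ca, cb, Φ.ef, Φ.ff, hd]
  rw [toFrame_apply, hc]
  simp [ca, cb, Φ.ef, Φ.ff, hd]

theorem toFrame_unip : Unip Φ.chC (Φ.toFrame Ψ) := by
  refine ⟨fun i hi x hx => ?_, fun x hx => ?_⟩
  · rw [chC_eq, mem_span_image_iff_exists_fun] at hx
    obtain ⟨S, hS, a, rfl⟩ := hx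
    rw [map_sum, ← Finset.sum_sub_distrib]
    refine sum_mem fun q _ => ?_
    rw [map_smul, toFrame_e, ← smul_sub]
    exact smul_mem _ _ (Φ.chC.mono (Nat.lt_succ_iff.1 (hS q.2)) (hΨ q))
  · rw [mem_perp_chC] at hx
    have hb : ∀ i, Φ.cb x i = 0 := fun i => by rw [cb, hx i i.2, mul_zero]
    have e : Φ.toFrame Ψ x - x =
        ∑ i, Φ.ca x i • (Ψ.e i - Φ.e i) - ∑ i, P.B (Ψ.f i) (Φ.core x) • Ψ.e i := by
      conv_lhs => arg 2; rw [← Φ.decomp x]
      rw [toFrame_apply]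
      simp only [hb, zero_smul, Finset.sum_const_zero, smul_sub, Finset.sum_sub_distrib]
      abel
    rw [e]
    exact sub_mem (sum_mem fun i _ => smul_mem _ _ (Φ.chC.le_top _ (hΨ i)))
      (sum_mem fun i _ => smul_mem _ _ (e_mem_of hΨ i))

omit hΨ

/-! ### Chambers fixed by all unipotent isometries -/

variable (Φ)

/-- `w` is fixed by every unipotent isometry attached to the base chamber. -/
def Fixed (w : Wt m) : Prop :=
  ∀ g : V →ₗ[F] V, IsIso P g → Unip Φ.chC g → ∀ i, ∀ x ∈ (Φ.ch w).sub i, g x ∈ (Φ.ch w).sub i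

theorem coord_f {w : Wt m} {k : ℕ} {x : V} (hx : x ∈ (Φ.ch w).sub k) {i : Fin m}
    (h : P.B (Φ.f i) x ≠ 0) : ∃ r : Fin m, (r : ℕ) < k ∧ w.2 r = false ∧ w.1 r = i := by
  by_contra hno
  push Not at hno
  refine h ?_
  have : (Φ.ch w).sub k ≤ LinearMap.ker (P.B (Φ.f i)) := by
    refine span_le.2 ?_
    rintro _ ⟨r, hr, rfl⟩
    rw [SetLike.mem_coe, LinearMap.mem_ker, vec]
    cases hw : w.2 r
    · simp [Φ.fe, (hno r hr hw).symm]
    · simp [Φ.ff]
  exact LinearMap.mem_ker.1 (this hx)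

theorem fixed_eq [FiniteDimensional F V] {w : Wt m} (h : Φ.Fixed w) :
    w.1 = 1 ∧ ∀ p : Fin m, (p : ℕ) + 1 < m → w.2 p = false := by
  have key : ∀ i j : Fin m, i < j → w.2 (w.1.symm i) = false ∧ w.1.symm i < w.1.symm j := by
    intro i j hij
    have hji : j ≠ i := hij.ne'
    set R := w.1.symm j with hR
    have hRj : w.1 R = j := w.1.apply_symm_apply j
    have conclude : ∀ x ∈ (Φ.ch w).sub ((R : ℕ) + 1), P.B (Φ.f i) x ≠ 0 →
        w.2 (w.1.symm i) = false ∧ w.1.symm i < R := by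
      intro x hx hne
      obtain ⟨r, hr, hb, hri⟩ := Φ.coord_f hx hne
      rw [← hri, Equiv.symm_apply_apply]
      refine ⟨hb, lt_of_le_of_ne (Nat.lt_succ_iff.1 hr) fun e => hji ?_⟩
      rw [← hRj, ← e, hri]
    cases hb : w.2 R
    · -- a transvection-like element moving `e j` to `e j + e i`
      let Ψ : Frame P :=
        { e := Function.update Φ.e j (Φ.e j + Φ.e i)
          f := Function.update Φ.f i (Φ.f i - Φ.f j)
          sing_e := fun p => by
            rcases eq_or_ne p j with rfl | hp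
            · simp [P.Q_add, Φ.sing_e, Φ.ee, P.tau_zero]
            · simp [hp, Φ.sing_e]
          sing_f := fun p => by
            rcases eq_or_ne p i with rfl | hp
            · have h1 : P.Q ((-1 : F) • Φ.f j) = 0 := P.sing_smul _ _ (Φ.sing_f j)
              rw [neg_one_smul] at h1
              simp [sub_eq_add_neg, P.Q_add, h1, Φ.sing_f, Φ.ff, P.tau_zero]
            · simp [hp, Φ.sing_f]
          ee := fun p q => by simp [Function.update_apply]; split_ifs <;> simp [Φ.ee]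
          ff := fun p q => by simp [Function.update_apply]; split_ifs <;> simp [Φ.ff]
          fe := fun p q => by
            simp only [Function.update_apply]
            split_ifs <;> simp_all [Φ.fe, hij.ne, hij.ne'] <;> exact fun e => by simp_all }
      have hΨ : ∀ p : Fin m, Ψ.e p - Φ.e p ∈ Φ.chC.sub p := fun p => by
        rcases eq_or_ne p j with rfl | hp
        · simpa [Ψ] using Φ.e_mem i hij
        · simp [Ψ, hp]
      have hmem := h _ (toFrame_isIso hΨ) (toFrame_unip hΨ) _ _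
        (Φ.vec_mem w R (Nat.lt_succ_self _))
      rw [vec, hb, hRj, cond_false, toFrame_e] at hmem
      refine conclude _ hmem ?_
      simp [Ψ, Φ.fe, hij.ne]
    · -- an element moving `f j` to `f j + e i`
      have hd := Φ.sw_one_ne i
      obtain ⟨c, hc⟩ := P.sig_surj (-(P.sw 1)⁻¹)
      let Ψ : Frame P :=
        { e := Φ.e
          f := fun p => if p = j then Φ.f j + Φ.e i else if p = i then Φ.f i + c • Φ.e j else Φ.f p
          sing_e := Φ.sing_e
          sing_f := fun p => by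
            split_ifs
            · simp [P.Q_add, Φ.sing_f, Φ.sing_e, Φ.fe, hji, P.tau_zero]
            · simp [P.Q_add, Φ.sing_f, P.sing_smul _ _ (Φ.sing_e j), Φ.fe, hij.ne, P.tau_zero]
            · exact Φ.sing_f p
          ee := Φ.ee
          ff := fun p q => by
            have h1 : P.B (Φ.f i + c • Φ.e j) (Φ.f j + Φ.e i) = 0 := by
              simp [LinearMap.map_smulₛₗ, Φ.ff, Φ.fe, Φ.ef, Φ.ee, hc, hij.ne, hji, hd]
            split_ifs with a b b <;>
              first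
                | exact h1
                | exact P.refl h1
                | simp_all [LinearMap.map_smulₛₗ, Φ.ff, Φ.ee, Φ.fe, Φ.ef, hij.ne, hji, Ne.symm]
          fe := fun p q => by
            split_ifs <;> simp_all [Φ.fe, Φ.ee] }
      have hΨ : ∀ p : Fin m, Ψ.e p - Φ.e p ∈ Φ.chC.sub p := fun p => by simp [Ψ]
      have hmem := h _ (toFrame_isIso hΨ) (toFrame_unip hΨ) _ _
        (Φ.vec_mem w R (Nat.lt_succ_self _))
      rw [vec, hb, hRj, cond_true, toFrame_f] at hmem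
      refine conclude _ hmem ?_
      simp [Ψ, Φ.fe, Φ.ff]
  have hmono : StrictMono w.1.symm := fun i j hij => (key i j hij).2
  have h1 : w.1 = 1 := perm_eq_one_of_le _ fun p => by
    have := hmono.id_le (w.1 p)
    rwa [id, Equiv.symm_apply_apply] at this
  refine ⟨h1, fun p hp => ?_⟩
  have := (key p ⟨p + 1, hp⟩ (Fin.lt_def.2 (Nat.lt_succ_self _))).1
  rwa [h1] at this

/-- If the last `f` can be moved, only the base chamber is fixed. -/
theorem fixed_base [FiniteDimensional F V] {w : Wt m} (h : Φ.Fixed w)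
    (hmov : ∀ p : Fin m, (p : ℕ) + 1 = m → ∃ z, z ≠ 0 ∧ P.Q (Φ.f p + z) = 0 ∧
      (∀ q, P.B (Φ.e q) z = 0) ∧ ∀ q, q ≠ p → P.B (Φ.f q) z = 0) : w = w1 false := by
  obtain ⟨h1, h2⟩ := Φ.fixed_eq h
  refine Prod.ext h1 (funext fun p => ?_)
  by_contra hp
  have hp' : w.2 p = true := by simpa [w1] using hp
  have hlast : (p : ℕ) + 1 = m := by
    by_contra hne
    have hlt : (p : ℕ) + 1 < m := by have := p.2; omega
    simp [h2 p hlt] at hp'
  obtain ⟨z, hz0, hzQ, hze, hzf⟩ := hmov p hlast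
  let Ψ : Frame P :=
    { e := Φ.e
      f := Function.update Φ.f p (Φ.f p + z)
      sing_e := Φ.sing_e
      sing_f := fun q => by
        rcases eq_or_ne q p with rfl | hq
        · simpa using hzQ
        · simp [hq, Φ.sing_f]
      ee := Φ.ee
      ff := fun q r => by
        rcases eq_or_ne q p with rfl | hq <;> rcases eq_or_ne r q with rfl | hr
        · simpa using P.sing_iso _ hzQ
        · simp [hr, Φ.ff, P.refl (hzf r hr)]
        · simp [hq, Φ.ff]
        · rcases eq_or_ne r p with rfl | hrp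
          · simp [hq, Φ.ff, hzf q hq]
          · simp [hq, hrp, Φ.ff]
      fe := fun q r => by
        rcases eq_or_ne q p with rfl | hq
        · simp [Φ.fe, P.refl (hze r)]
        · simp [hq, Φ.fe] }
  have hΨ : ∀ q : Fin m, Ψ.e q - Φ.e q ∈ Φ.chC.sub q := fun q => by simp [Ψ]
  have hmem := h _ (toFrame_isIso hΨ) (toFrame_unip hΨ) _ _ (Φ.vec_mem w p p.2)
  rw [vec, hp', h1, cond_true, Equiv.Perm.one_apply, toFrame_f] at hmem
  have hz : z ∈ (Φ.ch w).sub m := by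
    have := sub_mem hmem (Φ.vec_mem w p p.2)
    rwa [vec, hp', h1, cond_true, Equiv.Perm.one_apply,
      show Ψ.f p = Φ.f p + z from Function.update_self _ _ _, add_sub_cancel_left] at this
  rw [ch_sub, mem_span_image_iff_exists_fun] at hz
  obtain ⟨S, -, a, rfl⟩ := hz
  refine hz0 (Finset.sum_eq_zero fun q _ => ?_)
  have hq : a q * P.B (Φ.pv w q) (Φ.vec w q) = 0 := by
    have e1 : P.B (Φ.pv w q) (∑ x, a x • Φ.vec w x) = a q * P.B (Φ.pv w q) (Φ.vec w q) := by
      rw [map_sum, Finset.sum_eq_single q (fun x _ hx => by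
        rw [map_smul, Φ.pv_vec w q x fun e => hx (Subtype.ext e.symm), smul_zero]) (by simp),
        map_smul, smul_eq_mul]
    rw [← e1]
    by_cases hqp : (q : Fin m) = p
    · rw [pv, hqp, hp', cond_true, h1]; exact hze p
    · have : w.2 q = false := h2 q (by
        have := (q : Fin m).2; have : (q : Fin m).val ≠ p := fun e => hqp (Fin.ext e); omega)
      rw [pv, this, cond_false, h1]
      exact hzf q hqp
  rw [(mul_eq_zero.1 hq).resolve_right (Φ.pv_self w q), zero_smul]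

end Frame

end Cfsg.Agent.Steinberg.Polar
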